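import Cfsg.Agent.OddHalf.D9.Ru.XLevel
import Cfsg.Agent.OddHalf.D9.Ru.XfRes
import Cfsg.Agent.OddHalf.D9.KillAny
import Cfsg.Agent.KFacts.MulLift
import Cfsg.Agent.OddHalf.D9.Amb
import Cfsg.Agent.KFacts.MulRu.Main
import Cfsg.Agent.RuD.Model
import Cfsg.Agent.KFacts.MulDef
import Cfsg.Agent.RuD.IdxFin
import Cfsg.Agent.OddHalf.D9.Plug.Base

-- merged: Cfsg.Agent.OddHalf.D9.Ru.Base
section

/-!
# Perfect double covers of the Rudvalis group: squares

For `π : L → RuOrder.H` a perfect double cover with kernel `{1, c}`: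

* `sq_A`: the involutions of the class of `S²` lift to involutions;
* `sqRu`: the field `sq` of `Kill.KFacts`: if `v² = c` and `k` centralises the perfect core of the centraliser of `v`
  then `k² = 1` or `k² = c`.
-/

set_option autoImplicit false
set_option maxRecDepth 100000
set_option exponentiation.threshold 5000

namespace Cfsg.Agent.OddHalf.D9.Ru.Base

open Subgroup Cfsg.Agent.KFacts.MulTwo Cfsg.Agent.KFacts.MulDef Cfsg.Agent.OddHalf.D9.Ru.XLevel
open Cfsg.Agent.OddHalf.D9.Ru.Label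
open scoped commutatorElement

section gen

variable {L X : Type*} [Group L] [Group X] {π : L →* X} {c : L}

theorem mem_or (hd : Dbl π c) {x : L} (h : π x = 1) : x = 1 ∨ x = c := (hd.ker x).1 h

/-- two elements with square `c` and product of square `c` anticommute -/
theorem anti (hd : Dbl π c) {x y : L} (hx : x * x = c) (hy : y * y = c) (hxy : x * y * (x * y) = c) :
    x * y = y * x * c := by
  have hx' : x⁻¹ = x * c := by
    apply inv_eq_of_mul_eq_one_right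
    rw [← mul_assoc, hx, hd.sq]
  have hy' : y⁻¹ = y * c := by
    apply inv_eq_of_mul_eq_one_right
    rw [← mul_assoc, hy, hd.sq]
  have h1 : (x * y)⁻¹ = x * y * c := by
    apply inv_eq_of_mul_eq_one_right
    rw [← mul_assoc, hxy, hd.sq]
  have h2 : (x * y)⁻¹ = y * x := by
    rw [mul_inv_rev, hx', hy']
    calc y * c * (x * c) = y * (c * x) * c := by group
      _ = y * (x * c) * c := by rw [hd.cen x]
      _ = y * x * (c * c) := by group
      _ = y * x := by rw [hd.sq, mul_one]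
  calc x * y = x * y * c * c := by rw [mul_assoc, hd.sq, mul_one]
    _ = y * x * c := by rw [← h1, h2]

/-- the lifts of a class containing the seven involutions of an eightgroup are involutions -/
theorem sq_of_pure (hd : Dbl π c) {z : X} (zz : z * z = 1) {x y w : L} (hx : IsConj z (π x)) (hy : IsConj z (π y))
    (hw : IsConj z (π w)) (hxy : IsConj z (π (x * y))) (hxw : IsConj z (π (x * w))) (hyw : IsConj z (π (y * w)))
    (hxyw : IsConj z (π (x * (y * w)))) {u : L} (hu : IsConj z (π u)) : u * u = 1 := by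
  by_contra hne
  have key : ∀ v : L, IsConj z (π v) → v * v = c := by
    intro v hv
    have h1 : π (v * v) = 1 := by
      obtain ⟨g, hg⟩ := isConj_iff.1 hv
      rw [map_mul, ← hg]
      calc g * z * g⁻¹ * (g * z * g⁻¹) = g * (z * z) * g⁻¹ := by group
        _ = 1 := by rw [zz]; group
    rcases mem_or hd h1 with h | h
    · exact absurd (Cfsg.Agent.KFacts.MulLift.sq_conj' hd (hv.symm.trans hu) h) hne
    · exact h
  have a1 := anti hd (key x hx) (key y hy) (key _ hxy)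
  have a2 := anti hd (key x hx) (key w hw) (key _ hxw)
  have a3 := anti hd (key x hx) (key _ hyw) (key _ hxyw)
  apply hd.ne
  have h1 : x * (y * w) = y * w * x := by
    calc x * (y * w) = x * y * w := by group
      _ = y * x * (c * w) := by rw [a1]; group
      _ = y * x * (w * c) := by rw [hd.cen w]
      _ = y * (x * w) * c := by group
      _ = y * (w * x * c) * c := by rw [a2]
      _ = y * w * x * (c * c) := by group
      _ = y * w * x := by rw [hd.sq, mul_one]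
  rw [h1] at a3
  have h2 : y * w * x * 1 = y * w * x * c := by rw [mul_one]; exact a3
  exact (mul_left_cancel h2).symm

end gen

/-! ### 2A -/

open Cfsg.Agent.SporadicB Cfsg.Agent.RuD.Letters Cfsg.Agent.SporRec.TCUpperCert

/-- the conjugates of `S²` by the powers of `F` -/
def E (k : ℕ) : RuOrder.H := F ^ k * (S * S) * (F ^ k)⁻¹

theorem isConj_E (k : ℕ) : IsConj (S * S) (E k) := isConj_iff.2 ⟨F ^ k, rfl⟩

theorem E_sq (k : ℕ) : E k * E k = 1 := by
  unfold E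
  calc F ^ k * (S * S) * (F ^ k)⁻¹ * (F ^ k * (S * S) * (F ^ k)⁻¹) = F ^ k * (S * S * (S * S)) * (F ^ k)⁻¹ := by group
    _ = 1 := by rw [SS_sq]; group

theorem E_inv (k : ℕ) : (E k)⁻¹ = E k := inv_eq_of_mul_eq_one_left (E_sq k)

/-- words for `E k` -/
def ew (k : ℕ) : List ℕ := List.replicate k 3 ++ [1, 1] ++ List.replicate k 7

theorem wprod_replicate (a k : ℕ) : (wprod ml (List.replicate k a) : RuOrder.H) = lv ml a ^ k := by
  induction k with
  | zero => rw [List.replicate_zero, wprod_nil, pow_zero]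
  | succ k ih => rw [List.replicate_succ, wprod_cons, ih, pow_succ']

theorem wprod_ew (k : ℕ) : (wprod ml (ew k) : RuOrder.H) = E k := by
  unfold ew E
  rw [wprod_append, wprod_append, wprod_replicate, wprod_replicate, wSS]
  change F ^ k * (S * S) * (F⁻¹) ^ k = _
  rw [inv_pow]

theorem chkE : chkRel [ew 0 ++ ew 1 ++ ew 3, ew 0 ++ ew 2 ++ ew 6, ew 1 ++ ew 2 ++ ew 4, ew 0 ++ ew 4 ++ ew 5] = true := by
  decide +kernel

theorem E_mul_of {i j k : ℕ} (h : ew i ++ ew j ++ ew k ∈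
    [ew 0 ++ ew 1 ++ ew 3, ew 0 ++ ew 2 ++ ew 6, ew 1 ++ ew 2 ++ ew 4, ew 0 ++ ew 4 ++ ew 5]) : E i * E j = E k := by
  have h1 := rel_of_chk chkE _ h
  rw [wprod_append, wprod_append, wprod_ew, wprod_ew, wprod_ew] at h1
  rw [eq_inv_of_mul_eq_one_left h1, E_inv]

theorem E01 : E 0 * E 1 = E 3 := E_mul_of (by simp)
theorem E02 : E 0 * E 2 = E 6 := E_mul_of (by simp)
theorem E12 : E 1 * E 2 = E 4 := E_mul_of (by simp)
theorem E04 : E 0 * E 4 = E 5 := E_mul_of (by simp)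

variable {L : Type*} [Group L] {π : L →* RuOrder.H} {c : L}

/-- **2A lifts to involutions.** -/
theorem sq_A (hd : Dbl π c) {u : L} (hu : IsConj (S * S) (π u)) : u * u = 1 := by
  obtain ⟨x, hx⟩ := hd.surj (E 0)
  obtain ⟨y, hy⟩ := hd.surj (E 1)
  obtain ⟨w, hw⟩ := hd.surj (E 2)
  refine sq_of_pure hd SS_sq (x := x) (y := y) (w := w) ?_ ?_ ?_ ?_ ?_ ?_ ?_ hu
  · rw [hx]; exact isConj_E 0
  · rw [hy]; exact isConj_E 1
  · rw [hw]; exact isConj_E 2
  · rw [map_mul, hx, hy, E01]; exact isConj_E 3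
  · rw [map_mul, hx, hw, E02]; exact isConj_E 6
  · rw [map_mul, hy, hw, E12]; exact isConj_E 4
  · rw [map_mul, map_mul, hx, hy, hw, E12, E04]; exact isConj_E 5

/-! ### `Sz(8)` -/

/-- the group generated by `S`, `W`, `F` -/
def Y3 : Subgroup RuOrder.H := closure {S, W, F}

theorem S_mem : S ∈ Y3 := subset_closure (by simp)
theorem W_mem : W ∈ Y3 := subset_closure (by simp)
theorem F_mem : F ∈ Y3 := subset_closure (by simp)

theorem chkY : chkRel [[2, 2], [2, 3, 2, 3], [3, 3, 3, 3, 3, 3, 3], [1, 1, 1, 1], [7, 7, 7, 6, 3, 3, 6, 3, 6],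
    [6, 6, 2, 1, 2, 6, 2]] = true := by decide +kernel

theorem wv (w : List ℕ) (h : w ∈ [[2, 2], [2, 3, 2, 3], [3, 3, 3, 3, 3, 3, 3], [1, 1, 1, 1], [7, 7, 7, 6, 3, 3, 6, 3, 6],
    [6, 6, 2, 1, 2, 6, 2]]) : (w.map (lv ml)).prod = (1 : RuOrder.H) := rel_of_chk chkY w h

theorem relW : W * W = 1 := by
  have := wv [2, 2] (by simp)
  simpa [lv, ml] using this

theorem relWF : W * F * (W * F) = 1 := by
  have := wv [2, 3, 2, 3] (by simp)
  have e : W * (F * (W * F)) = 1 := by simpa [lv, ml] using this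
  rw [← e]; group

theorem relF : F ^ 7 = 1 := by
  have := wv [3, 3, 3, 3, 3, 3, 3] (by simp)
  have e : F * (F * (F * (F * (F * (F * F))))) = 1 := by simpa [lv, ml] using this
  rw [← e]
  simp only [pow_succ, pow_zero, one_mul, mul_assoc]

theorem relS : S * (S * (S * S)) = 1 := by
  have := wv [1, 1, 1, 1] (by simp)
  simpa [lv, ml] using this

theorem relh : F⁻¹ * (F⁻¹ * (F⁻¹ * (S⁻¹ * (F * (F * (S⁻¹ * (F * S⁻¹))))))) = 1 := by
  have := wv [7, 7, 7, 6, 3, 3, 6, 3, 6] (by simp)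
  simpa [lv, ml] using this

theorem relws : S⁻¹ * (S⁻¹ * (W * (S * (W * (S⁻¹ * W))))) = 1 := by
  have := wv [6, 6, 2, 1, 2, 6, 2] (by simp)
  simpa [lv, ml] using this

/-- the commutator subgroup is normalised -/
theorem conj_mem_comm {G : Type*} [Group G] {Y : Subgroup G} {x n : G} (hx : x ∈ Y) (hn : n ∈ ⁅Y, Y⁆) :
    x * n * x⁻¹ ∈ ⁅Y, Y⁆ := by
  have h1 : ⁅x, n⁆ ∈ ⁅Y, Y⁆ := commutator_mem_commutator hx (commutator_le_self Y hn)
  have e : x * n * x⁻¹ = ⁅x, n⁆ * n := by rw [commutatorElement_def]; group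
  rw [e]
  exact mul_mem h1 hn

theorem Y3_perfect : ⁅Y3, Y3⁆ = Y3 := by
  apply le_antisymm (commutator_le_self _)
  have hF : F ∈ ⁅Y3, Y3⁆ := by
    have h1 : ⁅W, F⁆ ∈ ⁅Y3, Y3⁆ := commutator_mem_commutator W_mem F_mem
    have hW' : W⁻¹ = W := inv_eq_of_mul_eq_one_left relW
    have e : ⁅W, F⁆ = (F ^ 2)⁻¹ := by
      rw [commutatorElement_def, hW']
      have h2 : W * F * W = F⁻¹ := by
        rw [eq_inv_iff_mul_eq_one, ← relWF]; group
      rw [h2]; group
    rw [e] at h1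
    have h3 : F = ((F ^ 2)⁻¹) ^ 3 := by
      rw [inv_pow, ← pow_mul]
      apply eq_inv_of_mul_eq_one_left
      rw [← pow_succ']
      exact relF
    rw [h3]
    exact pow_mem h1 3
  have hS3 : S * S * S ∈ ⁅Y3, Y3⁆ := by
    have e : S * S * S = (F * F * F)⁻¹ * (S⁻¹ * (F * F) * S⁻¹⁻¹) * ((S⁻¹ * S⁻¹) * F * (S⁻¹ * S⁻¹)⁻¹) := by
      have h1 : (F * F * F)⁻¹ * (S⁻¹ * (F * F) * S⁻¹⁻¹) * ((S⁻¹ * S⁻¹) * F * (S⁻¹ * S⁻¹)⁻¹) =
          F⁻¹ * (F⁻¹ * (F⁻¹ * (S⁻¹ * (F * (F * (S⁻¹ * (F * S⁻¹))))))) * (S * S * S) := by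
        simp only [mul_inv_rev, inv_inv, mul_assoc, inv_mul_cancel_left, mul_inv_cancel_left]
      rw [h1, relh, one_mul]
    rw [e]
    refine mul_mem (mul_mem (inv_mem (mul_mem (mul_mem hF hF) hF)) (conj_mem_comm (inv_mem S_mem) (mul_mem hF hF)))
      (conj_mem_comm (mul_mem (inv_mem S_mem) (inv_mem S_mem)) hF)
  have hS : S ∈ ⁅Y3, Y3⁆ := by
    have e : S = (S * S * S)⁻¹ := by
      apply eq_inv_of_mul_eq_one_left
      rw [← relS]; group
    rw [e]
    exact inv_mem hS3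
  have hW : W ∈ ⁅Y3, Y3⁆ := by
    have hW' : W⁻¹ = W := inv_eq_of_mul_eq_one_left relW
    have h1 : W * S * W⁻¹ ∈ ⁅Y3, Y3⁆ := conj_mem_comm W_mem hS
    have e : W = S * (W * S * W⁻¹)⁻¹ * (S * S) := by
      rw [hW']
      have h2 : S * (W * S * W)⁻¹ * (S * S) * (S⁻¹ * (S⁻¹ * (W * (S * (W * (S⁻¹ * W)))))) = W := by group
      rw [relws, mul_one] at h2
      exact h2.symm
    rw [e]
    exact mul_mem (mul_mem hS (inv_mem h1)) (mul_mem hS hS)
  unfold Y3 at hF hS hW ⊢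
  rw [closure_le]
  rintro x (rfl | rfl | rfl)
  · exact hS
  · exact hW
  · exact hF

/-! ### the field `sq` -/

theorem comm_T : ∀ y ∈ Y3, y * T = T * y := by
  have hT : Cm T := by
    have := (Cm.of_rels rT).1
    rwa [wprod_cons, wprod_nil, mul_one] at this
  intro y hy
  unfold Y3 at hy
  have h1 : closure ({S, W, F} : Set RuOrder.H) ≤ centralizer {T} := by
    rw [closure_le]
    rintro x (rfl | rfl | rfl)
    · exact mem_centralizer_singleton_iff.2 hT.s.symm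
    · exact mem_centralizer_singleton_iff.2 hT.w.symm
    · exact mem_centralizer_singleton_iff.2 hT.f.symm
  exact mem_centralizer_singleton_iff.1 (h1 hy)

/-- the perfect lift of `Sz(8)` centralises the lifts of `T` -/
theorem lift_le (hd : Dbl π c) {v : L} (hv : π v = T) : ⁅Y3.comap π, Y3.comap π⁆ ≤ centralizer {v} := by
  rw [commutator_le]
  have key : ∀ a ∈ Y3.comap π, ∃ r : L, (∀ x, r * x = x * r) ∧ v * a * v⁻¹ = a * r := by
    intro a ha
    have h1 : π (v * a * v⁻¹) = π a := by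
      rw [map_mul, map_mul, map_inv, hv, ← comm_T _ ha, mul_inv_cancel_right]
    rcases Cfsg.Agent.KFacts.MulLift.eq_or hd h1 with h | h
    · exact ⟨1, fun x => by rw [one_mul, mul_one], by rw [h, mul_one]⟩
    · exact ⟨c, hd.cen, h⟩
  intro a ha b hb
  obtain ⟨r, hr, h1⟩ := key a ha
  obtain ⟨s, hs, h2⟩ := key b hb
  rw [mem_centralizer_singleton_iff]
  have h3 : v * ⁅a, b⁆ * v⁻¹ = ⁅a, b⁆ := by
    have e : v * ⁅a, b⁆ * v⁻¹ = ⁅v * a * v⁻¹, v * b * v⁻¹⁆ := by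
      rw [commutatorElement_def, commutatorElement_def]; group
    rw [e, h1, h2, Cfsg.Agent.OddHalf.D9.KillAny.commutator_central hr hs]
  exact (mul_inv_eq_iff_eq_mul.1 h3).symm

theorem ker_central (hd : Dbl π c) (x : L) (h : π x = 1) (y : L) : x * y = y * x := by
  rcases mem_or hd h with rfl | rfl
  · rw [one_mul, mul_one]
  · exact hd.cen y

theorem sq_T (hd : Dbl π c) {v k : L} (hv : π v = T) (hk : ∀ y ∈ PC (centralizer {v}), k * y = y * k) :
    k * k = 1 ∨ k * k = c := by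
  obtain ⟨h1, h2⟩ := Cfsg.Agent.OddHalf.D9.KillAny.lift_perfect (f := π) (ker_central hd) (S := Y3)
    (fun y _ => hd.surj y) Y3_perfect
  have h3 : ⁅Y3.comap π, Y3.comap π⁆ ≤ PC (centralizer {v}) := le_PC (lift_le hd hv) h2
  have h4 : ∀ y ∈ Y3, π k * y = y * π k := by
    intro y hy
    rw [← h1] at hy
    obtain ⟨y, hy, rfl⟩ := hy
    rw [← map_mul, hk y (h3 hy), map_mul]
  have h5 : Cm (π k) := ⟨h4 S S_mem, h4 W W_mem, h4 F F_mem⟩
  apply mem_or hd
  rw [map_mul, h5.sq]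

/-- the field `sq` -/
theorem sqRu (hd : Dbl π c) (v k : L) (hv : v * v = c) (hk : ∀ y ∈ PC (centralizer {v}), k * y = y * k) :
    k * k = 1 ∨ k * k = c := by
  have h1 : π v * π v = 1 := by rw [← map_mul, hv]; exact Inn.pc hd
  have h2 : π v ≠ 1 := by
    intro h
    rcases mem_or hd h with rfl | rfl
    · apply hd.ne; rw [← hv, one_mul]
    · apply hd.ne; rw [← hv, hd.sq]
  rcases isConj_or h1 h2 with h3 | h3
  · exfalso
    apply hd.ne
    rw [← hv, sq_A hd h3]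
  · obtain ⟨g, hg⟩ := isConj_iff.1 h3.symm
    obtain ⟨g, rfl⟩ := hd.surj g
    have h4 : π (g * v * g⁻¹) = T := by rw [map_mul, map_mul, map_inv, hg]
    have h5 := sq_T hd (k := g * k * g⁻¹) h4 (by
      intro y hy
      have h6 : (PC (centralizer {v})).map (MulAut.conj g).toMonoidHom = PC (centralizer {g * v * g⁻¹}) := by
        rw [PC_map_conj]
        congr 1
        ext x
        rw [mem_map_equiv, mem_centralizer_singleton_iff, mem_centralizer_singleton_iff]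
        have e1 : (MulAut.conj g).symm x = g⁻¹ * x * g := rfl
        rw [e1]
        constructor
        · intro h
          calc x * (g * v * g⁻¹) = g * (g⁻¹ * x * g * v) * g⁻¹ := by group
            _ = g * (v * (g⁻¹ * x * g)) * g⁻¹ := by rw [h]
            _ = g * v * g⁻¹ * x := by group
        · intro h
          calc g⁻¹ * x * g * v = g⁻¹ * (x * (g * v * g⁻¹)) * g := by group
            _ = g⁻¹ * (g * v * g⁻¹ * x) * g := by rw [h]
            _ = v * (g⁻¹ * x * g) := by group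
      rw [← h6] at hy
      obtain ⟨y, hy, rfl⟩ := hy
      change g * k * g⁻¹ * (g * y * g⁻¹) = g * y * g⁻¹ * (g * k * g⁻¹)
      calc g * k * g⁻¹ * (g * y * g⁻¹) = g * (k * y) * g⁻¹ := by group
        _ = g * (y * k) * g⁻¹ := by rw [hk y hy]
        _ = g * y * g⁻¹ * (g * k * g⁻¹) := by group)
    have e : k * k = g⁻¹ * (g * k * g⁻¹ * (g * k * g⁻¹)) * g := by group
    rcases h5 with h5 | h5
    · left; rw [e, h5]; group
    · right
      rw [e, h5, mul_assoc, hd.cen g]; group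

end Cfsg.Agent.OddHalf.D9.Ru.Base

end

-- merged: Cfsg.Agent.OddHalf.D9.Ru.Row
section

/-!
# D9, row `2.Ru`, from the facts on the group `2.Ru`
-/

set_option autoImplicit false

namespace Cfsg.Agent.OddHalf.D9.Ru.Row

open Subgroup Cfsg Cfsg.Agent.OddHalf.Iface Cfsg.Agent.OddHalf.D9.Ru.Label

universe u

/-- the facts on `2.X` needed for the row -/
def Facts (P : (X : Type u) → [Group X] → Prop) : Prop :=
  ∀ (L : Type u) [Group L], Finite L → commutator L = ⊤ → Nat.card ↥(center L) = 2 →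
    P (L ⧸ center L) → ∀ c ∈ center L, c ≠ 1 → ∃ ℓ : Lbl.{u}, IsoInv ℓ ∧ Kill.KFacts ℓ L c

/-- the row of `2.X` from the facts on `2.X` -/
theorem row_of {P : (X : Type u) → [Group X] → Prop} (F : Facts P) : Cut.Row.{u} (fun K _ => Cut.Two P K) := by
  intro G _ C K S hc h
  haveI := C.fin
  haveI := C.simple
  obtain ⟨z, hz, hz1, A⟩ := Amb.exists_amb C S hc h.1
  obtain ⟨ℓ, hℓ, hF⟩ := F ↥K inferInstance (Amb.commutator_eq_top S) h.1 h.2 _ hz hz1
  exact Kill.kill C.na hℓ A hF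

/-- **D9, row `2.Ru`**, from the facts on the group `2.Ru`. -/
theorem row (F : Facts.{u} (fun X _ => Spor.IsoRu X)) : Cut.Row.{u} (fun K _ => Cut.Two (fun X _ => Spor.IsoRu X) K) :=
  row_of F

end Cfsg.Agent.OddHalf.D9.Ru.Row

end

-- merged: Cfsg.Agent.OddHalf.D9.Ru.Asm
section

/-!
# D9, row `2.Ru`: the facts from one lift of an involution

`KS ℓ π c e`: facts on a lift `e` of `S²` (label, core), on the lifts of `T`, and a triple of conjugates of `e` with
product `c`. `KS.kfacts`: these give `Kill.KFacts`; `row_of_ks` the row.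
-/

set_option autoImplicit false

namespace Cfsg.Agent.OddHalf.D9.Ru.Asm

open Subgroup Cfsg.Agent.KFacts.MulTwo Cfsg.Agent.KFacts.MulDef Cfsg.Agent.OddHalf.D9.Ru.XLevel
open Cfsg.Agent.OddHalf.D9.Ru.Label Cfsg.Agent.OddHalf.D9.Ru.Base Cfsg.Agent.SporadicB Cfsg.Agent.RuD.Letters
open Cfsg.Agent.OddHalf.D9.Ru.Kill Cfsg.Agent.OddHalf.D9.M12Glue

universe u

variable {L : Type u} [Group L] {π : L →* RuOrder.H} {c : L}

/-- The facts on a lift `e` of `S²`. -/
structure KS (ℓ : Lbl.{u}) (π : L →* RuOrder.H) (c e : L) : Prop where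
  pe : π e = S * S
  mem : c ∈ PCen e
  lab : Lab ℓ (PCen e) e
  labn : ¬ Lab ℓ (PCen e) (e * c)
  labc : ¬ Lab ℓ (PCen e) c
  tau : ∀ t : L, π t = T → t * t ≠ 1
  tri : ∃ g0 g1 g2 : L, IsConj e g0 ∧ IsConj e g1 ∧ IsConj e g2 ∧ g0 * g1 = g1 * g0 ∧ g0 * g1 * g2 = c

theorem centralizer_conj (g f : L) :
    (centralizer {f}).map (MulAut.conj g).toMonoidHom = centralizer {g * f * g⁻¹} := by
  ext x
  rw [mem_map_equiv, mem_centralizer_singleton_iff, mem_centralizer_singleton_iff]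
  have e1 : (MulAut.conj g).symm x = g⁻¹ * x * g := rfl
  rw [e1]
  constructor
  · intro h
    calc x * (g * f * g⁻¹) = g * (g⁻¹ * x * g * f) * g⁻¹ := by group
      _ = g * (f * (g⁻¹ * x * g)) * g⁻¹ := by rw [h]
      _ = g * f * g⁻¹ * x := by group
  · intro h
    calc g⁻¹ * x * g * f = g⁻¹ * (x * (g * f * g⁻¹)) * g := by group
      _ = g⁻¹ * (g * f * g⁻¹ * x) * g := by rw [h]
      _ = f * (g⁻¹ * x * g) := by group

theorem PCen_conj (g f : L) : (PCen f).map (MulAut.conj g).toMonoidHom = PCen (g * f * g⁻¹) := by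
  rw [PCen, PC_map_conj, centralizer_conj]

theorem PCen_mul_c (hd : Dbl π c) (f : L) : PCen (f * c) = PCen f := by
  have : (centralizer {f * c} : Subgroup L) = centralizer {f} := by
    ext x
    rw [mem_centralizer_singleton_iff, mem_centralizer_singleton_iff]
    constructor
    · intro h
      have h1 : x * f * c = f * x * c := by
        calc x * f * c = x * (f * c) := by group
          _ = f * (c * x) := by rw [h]; group
          _ = f * x * c := by rw [hd.cen x]; group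
      exact mul_right_cancel h1
    · intro h
      calc x * (f * c) = x * f * c := by group
        _ = f * (x * c) := by rw [h]; group
        _ = f * c * x := by rw [← hd.cen x]; group
  rw [PCen, this]

variable {ℓ : Lbl.{u}}

theorem lab_conj (hℓ : IsoInv ℓ) (g f x : L) : Lab ℓ (PCen (g * f * g⁻¹)) (g * x * g⁻¹) ↔ Lab ℓ (PCen f) x := by
  rw [← PCen_conj]
  exact lab_map_iff hℓ (MulAut.conj g).toMonoidHom (MulAut.conj g).injective

namespace KS

variable {e : L} (H : KS ℓ π c e)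
include H

/-- an involution of `L` is a conjugate of `e` or of `ec` -/
theorem cases (hd : Dbl π c) {f : L} (hf : InvL c f) : ∃ g, f = g * e * g⁻¹ ∨ f = g * e * g⁻¹ * c := by
  have h1 : π f * π f = 1 := by rw [← map_mul, hf.1, map_one]
  have h2 : π f ≠ 1 := by
    intro h
    rcases mem_or hd h with h | h
    · exact hf.ne h
    · exact hf.nec h
  rcases isConj_or h1 h2 with h3 | h3
  · obtain ⟨g, hg⟩ := isConj_iff.1 h3
    obtain ⟨g, rfl⟩ := hd.surj g
    refine ⟨g, Cfsg.Agent.KFacts.MulLift.eq_or hd ?_⟩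
    rw [map_mul, map_mul, map_inv, H.pe, hg]
  · exfalso
    obtain ⟨g, hg⟩ := isConj_iff.1 h3.symm
    obtain ⟨g, rfl⟩ := hd.surj g
    apply H.tau (g * f * g⁻¹)
    · rw [map_mul, map_mul, map_inv, hg]
    · calc g * f * g⁻¹ * (g * f * g⁻¹) = g * (f * f) * g⁻¹ := by group
        _ = 1 := by rw [hf.sq]; group

/-- the labels of the conjugates of `e` -/
theorem lab1 (hℓ : IsoInv ℓ) (hd : Dbl π c) (g : L) :
    c ∈ PCen (g * e * g⁻¹) ∧ Lab ℓ (PCen (g * e * g⁻¹)) (g * e * g⁻¹) ∧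
      ¬ Lab ℓ (PCen (g * e * g⁻¹)) (g * e * g⁻¹ * c) ∧ ¬ Lab ℓ (PCen (g * e * g⁻¹)) c := by
  have e1 : g * c * g⁻¹ = c := by rw [← hd.cen g, mul_inv_cancel_right]
  have e2 : g * e * g⁻¹ * c = g * (e * c) * g⁻¹ := by
    calc g * e * g⁻¹ * c = g * e * (g⁻¹ * c) := by group
      _ = g * e * (c * g⁻¹) := by rw [hd.cen]
      _ = g * (e * c) * g⁻¹ := by group
  refine ⟨?_, ?_, ?_, ?_⟩
  · rw [← PCen_conj]
    exact ⟨c, H.mem, e1⟩
  · rw [lab_conj hℓ]
    exact H.lab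
  · rw [e2, lab_conj hℓ]
    exact H.labn
  · have := lab_conj hℓ g e c
    rw [e1] at this
    rw [this]
    exact H.labc

theorem lab2 (hℓ : IsoInv ℓ) (hd : Dbl π c) (g : L) :
    c ∈ PCen (g * e * g⁻¹ * c) ∧ Lab ℓ (PCen (g * e * g⁻¹ * c)) (g * e * g⁻¹ * c * c) ∧
      ¬ Lab ℓ (PCen (g * e * g⁻¹ * c)) (g * e * g⁻¹ * c) ∧ ¬ Lab ℓ (PCen (g * e * g⁻¹ * c)) c := by
  obtain ⟨h1, h2, h3, h4⟩ := H.lab1 hℓ hd g
  rw [PCen_mul_c hd]
  refine ⟨h1, ?_, h3, h4⟩
  rw [mul_assoc _ c c, hd.sq, mul_one]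
  exact h2

theorem invL_conj (hd : Dbl π c) {g0 : L} (h0 : IsConj e g0) : InvL c (g0 * c) ∧ Lab ℓ (PCen e) e := by
  obtain ⟨g, rfl⟩ := isConj_iff.1 h0
  have hee : e * e = 1 := sq_A hd (by rw [H.pe])
  refine ⟨⟨?_, ?_, ?_⟩, H.lab⟩
  · have e1 : g * e * g⁻¹ * c * (g * e * g⁻¹ * c) = g * (e * e) * g⁻¹ * (c * c) := by
      calc g * e * g⁻¹ * c * (g * e * g⁻¹ * c) = g * e * g⁻¹ * (c * (g * e * g⁻¹)) * c := by group
        _ = g * e * g⁻¹ * ((g * e * g⁻¹) * c) * c := by rw [hd.cen (g * e * g⁻¹)]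
        _ = g * (e * e) * g⁻¹ * (c * c) := by group
    rw [e1, hee, hd.sq]; group
  · intro h
    have h1 := congrArg π h
    rw [map_mul, map_mul, map_mul, map_inv, H.pe, Inn.pc hd, map_one, mul_one] at h1
    apply SS_ne
    calc S * S = (π g)⁻¹ * (π g * (S * S) * (π g)⁻¹) * π g := by group
      _ = 1 := by rw [h1]; group
  · intro h
    have h1 := congrArg π h
    rw [map_mul, map_mul, map_mul, map_inv, H.pe, Inn.pc hd, mul_one] at h1
    apply SS_ne
    calc S * S = (π g)⁻¹ * (π g * (S * S) * (π g)⁻¹) * π g := by group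
      _ = 1 := by rw [h1]; group

/-- **The facts on `2.Ru`.** -/
theorem kfacts (hℓ : IsoInv ℓ) (hd : Dbl π c) : KFacts ℓ L c where
  cc := hd.sq
  c1 := hd.ne
  cen := Inn.cenRu hd
  inn := Inn.innRu hd
  mem f hf := by
    obtain ⟨g, rfl | rfl⟩ := H.cases hd hf
    · exact (H.lab1 hℓ hd g).1
    · exact (H.lab2 hℓ hd g).1
  lab_or f hf := by
    obtain ⟨g, rfl | rfl⟩ := H.cases hd hf
    · exact Or.inl (H.lab1 hℓ hd g).2.1
    · exact Or.inr (H.lab2 hℓ hd g).2.1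
  lab_not f hf h := by
    obtain ⟨g, rfl | rfl⟩ := H.cases hd hf
    · exact (H.lab1 hℓ hd g).2.2.1
    · exact absurd h (H.lab2 hℓ hd g).2.2.1
  lab_c f hf := by
    obtain ⟨g, rfl | rfl⟩ := H.cases hd hf
    · exact (H.lab1 hℓ hd g).2.2.2
    · exact (H.lab2 hℓ hd g).2.2.2
  conj f w hf hw h1 h2 := by
    obtain ⟨g, rfl | rfl⟩ := H.cases hd hf
    · exact absurd h1 (H.lab1 hℓ hd g).2.2.1
    · obtain ⟨h, rfl | rfl⟩ := H.cases hd hw
      · exact absurd h2 (H.lab1 hℓ hd h).2.2.1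
      · refine ⟨h * g⁻¹, ?_⟩
        calc h * g⁻¹ * (g * e * g⁻¹ * c) * (h * g⁻¹)⁻¹ = h * e * (g⁻¹ * c * g) * h⁻¹ := by group
          _ = h * e * c * h⁻¹ := by rw [← hd.cen g⁻¹]; group
          _ = h * e * (c * h⁻¹) := by group
          _ = h * e * (h⁻¹ * c) := by rw [hd.cen h⁻¹]
          _ = h * e * h⁻¹ * c := by group
  pf := by
    obtain ⟨g0, g1, g2, h0, h1, h2, hc, h3⟩ := H.tri
    have hinv : ∀ g : L, IsConj e g → g * g = 1 := by
      intro g hg
      apply sq_A hd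
      rw [← H.pe]
      exact π.map_isConj hg
    have hlab : ∀ g : L, IsConj e g → Lab ℓ (PCen (g * c)) (g * c * c) := by
      intro g hg
      obtain ⟨k, rfl⟩ := isConj_iff.1 hg
      exact (H.lab2 hℓ hd k).2.1
    have e2 : g0 * c * (g1 * c) = g2 * c := by
      have h4 : g0 * g1 = c * g2 := by
        have := eq_mul_inv_of_mul_eq h3
        rw [this, inv_eq_of_mul_eq_one_left (hinv g2 h2)]
      calc g0 * c * (g1 * c) = g0 * (c * g1) * c := by group
        _ = g0 * (g1 * c) * c := by rw [hd.cen]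
        _ = g0 * g1 * (c * c) := by group
        _ = c * g2 := by rw [hd.sq, mul_one, h4]
        _ = g2 * c := hd.cen g2
    refine ⟨g0 * c, g1 * c, (H.invL_conj hd h0).1, (H.invL_conj hd h1).1, ?_, ?_, ?_, hlab g0 h0, hlab g1 h1, ?_⟩
    · rw [e2]; exact (H.invL_conj hd h2).1
    · calc g0 * c * (g1 * c) = g0 * (c * g1) * c := by group
        _ = g0 * (g1 * c) * c := by rw [hd.cen]
        _ = g0 * g1 * (c * c) := by group
        _ = g1 * g0 * (c * c) := by rw [hc]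
        _ = g1 * (g0 * c) * c := by group
        _ = g1 * (c * g0) * c := by rw [hd.cen]
        _ = g1 * c * (g0 * c) := by group
    · intro h
      have h4 : g0 = g1 := mul_right_cancel h
      have h5 : g0 * g1 = 1 := by rw [← h4]; exact hinv g0 h0
      rw [h5, one_mul] at h3
      have h6 := (H.invL_conj hd h2).1.ne
      apply h6
      rw [h3, hd.sq]
    · rw [e2]
      exact hlab g2 h2
  sq := sqRu hd

end KS

/-- the row from the facts on the double covers of `RuOrder.H` -/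
theorem facts_of_ks (F : ∀ (L : Type u) [Group L] [Finite L] (π : L →* RuOrder.H) (c : L), Dbl π c →
    ∃ (ℓ : Lbl.{u}) (e : L), IsoInv ℓ ∧ KS ℓ π c e) : Row.Facts.{u} (fun X _ => Spor.IsoRu X) := by
  intro L _ hL hp h2 hR c hc hc1
  obtain ⟨π, hd⟩ := Inn.exists_dbl hp h2 hR hc hc1
  have := hL
  obtain ⟨ℓ, e, hℓ, hK⟩ := F L π c hd
  exact ⟨ℓ, hℓ, hK.kfacts hℓ hd⟩

end Cfsg.Agent.OddHalf.D9.Ru.Asm

end

-- merged: Cfsg.Agent.OddHalf.D9.Ru.XLab
section

/-!
# D9, row `2.Ru`: the label is the generator of `[[O_2(N), O_2(N)], O_2(N)]`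
-/

set_option autoImplicit false
set_option linter.dupNamespace false

namespace Cfsg.Agent.OddHalf.D9.Ru.XLab

open Subgroup Cfsg.Agent.KFacts.MulTwo Cfsg.Agent.KFacts.MulDef Cfsg.Agent.OddHalf.D9.M12Glue
  Cfsg.Agent.OddHalf.D9.ExTrick Cfsg.Agent.OddHalf.D9.Ru.Inn Cfsg.Agent.OddHalf.D9.Ru.Label
  Cfsg.Agent.OddHalf.D9.Ru.Kill Cfsg.Agent.OddHalf.D9.Ru.XF Cfsg.Agent.OddHalf.D9.Ru.XF.LC

open scoped commutatorElement

universe u v

/-- the label: a nontrivial element of `[[Q, Q], Q]` for a normal 2-subgroup `Q` -/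
def lab : Lbl.{u} := fun P _ x => x ≠ 1 ∧ ∃ Q : Subgroup P, Q.Normal ∧ IsPGroup 2 Q ∧ x ∈ ⁅⁅Q, Q⁆, Q⁆

theorem isoInv : IsoInv lab.{u} := by
  rintro P P' _ _ e x ⟨hx, Q, hn, hp, hQ⟩
  refine ⟨fun h => hx ((map_eq_one_iff e e.injective).1 h), Q.map e.toMonoidHom, hn.map _ e.surjective, hp.map _, ?_⟩
  rw [← map_commutator, ← map_commutator]
  exact ⟨x, hQ, rfl⟩

/-- the label in a subgroup -/
theorem lab_iff {G : Type u} [Group G] (N : Subgroup G) (x : G) : Lab lab N x ↔ x ≠ 1 ∧ ∃ Q ≤ N,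
    (∀ g ∈ N, ∀ q ∈ Q, g * q * g⁻¹ ∈ Q) ∧ IsPGroup 2 Q ∧ x ∈ ⁅⁅Q, Q⁆, Q⁆ := by
  constructor
  · rintro ⟨hx, h1, Q, hn, hp, hQ⟩
    refine ⟨fun h => h1 (Subtype.ext h), Q.map N.subtype, map_subtype_le Q, ?_, hp.map _, ?_⟩
    · rintro g hg _ ⟨q, hq, rfl⟩
      exact ⟨⟨g, hg⟩ * q * ⟨g, hg⟩⁻¹, hn.conj_mem q hq _, rfl⟩
    · rw [← map_commutator, ← map_commutator]
      exact ⟨⟨x, hx⟩, hQ, rfl⟩
  · rintro ⟨h1, Q, hle, hn, hp, hQ⟩
    have e : (Q.subgroupOf N).map N.subtype = Q := by rw [subgroupOf_map_subtype, inf_eq_left.mpr hle]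
    rw [← e, ← map_commutator, ← map_commutator] at hQ
    obtain ⟨y, hy, hyx⟩ := hQ
    have hy' : (⟨x, hyx ▸ y.2⟩ : N) = y := Subtype.ext hyx.symm
    refine ⟨hyx ▸ y.2, fun h => h1 (congrArg Subtype.val h), Q.subgroupOf N, ⟨?_⟩, ?_, ?_⟩
    · intro q hq g
      exact hn g g.2 q hq
    · exact hp.of_injective (subgroupOfEquivOfLe hle).toMonoidHom (subgroupOfEquivOfLe hle).injective
    · rw [hy']; exact hy

section

variable {L : Type u} {X : Type v} [Group L] [Group X] {π : L →* X} {c e a' : L} {z a : X} {P1 R E : Subgroup X}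

theorem ne_ec (H : LC π c e a' z a P1 R E) : e * c ≠ 1 := by
  intro h
  have := congrArg π h
  rw [map_mul, pc H.hd, mul_one, H.pe, map_one] at this
  exact H.z1 this

/-- the key: `[r, x]` is `1` or `e` -/
theorem key (H : LC π c e a' z a P1 R E) {r x : L} (hr : r ∈ N π z) (hrR : π r ∈ R) (hxE : π x ∈ E) :
    r * x * r⁻¹ * x⁻¹ = 1 ∨ r * x * r⁻¹ * x⁻¹ = e := by
  have h1 : r * x * r⁻¹ * x⁻¹ = 1 ∨ r * x * r⁻¹ * x⁻¹ = c ∨ r * x * r⁻¹ * x⁻¹ = e ∨ r * x * r⁻¹ * x⁻¹ = c * e := by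
    rcases H.F.RE _ hrR _ hxE with h | h
    · rw [← map_inv, ← map_inv, ← map_mul, ← map_mul, ← map_mul, H.hd.ker] at h
      rcases h with h | h
      · exact Or.inl h
      · exact Or.inr (Or.inl h)
    · rw [← map_inv, ← map_inv, ← map_mul, ← map_mul, ← map_mul, ← H.pe] at h
      rcases eq_or H.hd h with h | h
      · exact Or.inr (Or.inr (Or.inl h))
      · exact Or.inr (Or.inr (Or.inr h))
  have hre := H.N_e hr
  have hxc : ∀ s : L, (∀ y, s * y = y * s) → ∀ x, r * (s * x) * r⁻¹ * (s * x)⁻¹ = r * x * r⁻¹ * x⁻¹ := by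
    intro s hs x
    calc r * (s * x) * r⁻¹ * (s * x)⁻¹ = (r * s) * x * r⁻¹ * x⁻¹ * s⁻¹ := by group
      _ = (s * (r * x * r⁻¹ * x⁻¹)) * s⁻¹ := by rw [← hs r]; group
      _ = r * x * r⁻¹ * x⁻¹ := by rw [hs]; group
  rcases H.F.cl _ hxE with h2 | h2 | ⟨g, hg, h2⟩
  · left
    rcases (H.hd.ker x).1 h2 with rfl | rfl
    · group
    · rw [← H.hd.cen]; group
  · left
    rw [← H.pe] at h2
    rcases eq_or H.hd h2 with rfl | rfl
    · rw [hre]; group
    · rw [hxc c H.hd.cen, hre]; group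
  · obtain ⟨k, hk, rfl⟩ := H.exists_N hg
    have h3 : π x = π (k * a' * k⁻¹) := by rw [map_mul, map_mul, map_inv, H.pa, h2]
    have h4 : ∃ y, y = k * a' * k⁻¹ ∧ r * x * r⁻¹ * x⁻¹ = r * y * r⁻¹ * y⁻¹ := by
      rcases eq_or H.hd h3 with h | h
      · exact ⟨_, rfl, by rw [h]⟩
      · exact ⟨_, rfl, by rw [h, hxc c H.hd.cen]⟩
    obtain ⟨y, hy, hxy⟩ := h4
    rw [hxy] at h1 ⊢
    have ey : IsConj e y := H.ea.trans (isConj_iff.2 ⟨k, hy.symm⟩)
    have eye : IsConj e (y * e) := by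
      refine H.eae.trans (isConj_iff.2 ⟨k, ?_⟩)
      rw [hy]
      have hke := H.N_e hk
      calc k * (a' * e) * k⁻¹ = k * a' * (e * k⁻¹) := by group
        _ = k * a' * (k⁻¹ * (k * e) * k⁻¹) := by group
        _ = k * a' * (k⁻¹ * (e * k) * k⁻¹) := by rw [hke]
        _ = _ := by group
    rcases h1 with h | h | h | h
    · exact Or.inl h
    · exfalso
      have h5 : r * y * r⁻¹ = c * y := mul_inv_eq_iff_eq_mul.1 h
      refine H.not_conj' (x := y) (y := c * y) ey ?_ (isConj_iff.2 ⟨r, h5⟩)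
      rw [← mul_assoc, H.cc, one_mul]
      exact ey
    · exact Or.inr h
    · exfalso
      have h5 : r * y * r⁻¹ = c * e * y := mul_inv_eq_iff_eq_mul.1 h
      have hey : e * y = y * e := by
        have := H.N_e hk
        have h6 : a' * e = e * a' := by
          -- both `a'` and `a' e` are involutions
          have h7 : a' * a' = 1 := by
            obtain ⟨g, hg⟩ := isConj_iff.1 H.ea
            rw [← hg]
            calc g * e * g⁻¹ * (g * e * g⁻¹) = g * (e * e) * g⁻¹ := by group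
              _ = 1 := by rw [H.ee]; group
          have h8 : a' * e * (a' * e) = 1 := by
            obtain ⟨g, hg⟩ := isConj_iff.1 H.eae
            rw [← hg]
            calc g * e * g⁻¹ * (g * e * g⁻¹) = g * (e * e) * g⁻¹ := by group
              _ = 1 := by rw [H.ee]; group
          calc a' * e = (a' * e)⁻¹ := (inv_eq_of_mul_eq_one_left h8).symm
            _ = e⁻¹ * a'⁻¹ := by group
            _ = e * a' := by rw [inv_eq_of_mul_eq_one_left h7, inv_eq_of_mul_eq_one_left H.ee]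
        rw [hy]
        calc e * (k * a' * k⁻¹) = (e * k) * a' * k⁻¹ := by group
          _ = (k * e) * a' * k⁻¹ := by rw [this]
          _ = k * (e * a') * k⁻¹ := by group
          _ = k * (a' * e) * k⁻¹ := by rw [h6]
          _ = k * a' * (k⁻¹ * (k * e)) * k⁻¹ := by group
          _ = k * a' * (k⁻¹ * (e * k)) * k⁻¹ := by rw [this]
          _ = _ := by group
      refine H.not_conj' (x := y) (y := c * e * y) ey ?_ (isConj_iff.2 ⟨r, h5⟩)
      rw [← mul_assoc, ← mul_assoc, H.cc, one_mul, hey]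
      exact eye

theorem gam_le (H : LC π c e a' z a P1 R E) {Q : Subgroup L} (hQN : Q ≤ N π z) (hQR : ∀ q ∈ Q, π q ∈ R) :
    ∀ x ∈ ⁅⁅Q, Q⁆, Q⁆, x = 1 ∨ x = e := by
  have h1 : ⁅⁅Q, Q⁆, Q⁆ ≤ zpowers e := by
    rw [commutator_le]
    intro x hx q hq
    have hxE : π x ∈ E := by
      have h2 : ⁅Q, Q⁆ ≤ E.comap π := by
        rw [commutator_le]
        intro a ha b hb
        show π ⁅a, b⁆ ∈ E
        rw [map_commutatorElement]
        exact H.F.RR (commutator_mem_commutator (hQR a ha) (hQR b hb))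
      exact h2 hx
    have h3 := key H (hQN hq) (hQR q hq) hxE
    have h4 : ⁅x, q⁆ = (q * x * q⁻¹ * x⁻¹)⁻¹ := by rw [commutatorElement_def]; group
    rw [h4]
    rcases h3 with h3 | h3
    · rw [h3, inv_one]; exact one_mem _
    · rw [h3]; exact inv_mem (mem_zpowers e)
  intro x hx
  obtain ⟨k, rfl⟩ := mem_zpowers_iff.1 (h1 hx)
  have h2 : e ^ (2 : ℤ) = 1 := by rw [zpow_ofNat, pow_two, H.ee]
  rcases Int.even_or_odd' k with ⟨j, rfl | rfl⟩
  · left; rw [zpow_mul, h2, one_zpow]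
  · right; rw [zpow_add_one, zpow_mul, h2, one_zpow, one_mul]

/-- normal 2-subgroups of `N` are over `R` -/
theorem over_R (H : LC π c e a' z a P1 R E) {Q : Subgroup L} (hQN : Q ≤ N π z)
    (hn : ∀ g ∈ N π z, ∀ q ∈ Q, g * q * g⁻¹ ∈ Q) (hp : IsPGroup 2 Q) : ∀ q ∈ Q, π q ∈ R := by
  have h1 : Q.map π ≤ R := by
    refine H.F.R_max _ ?_ (hp.map π) ?_
    · rintro _ ⟨q, hq, rfl⟩
      exact H.N_le (hQN hq)
    · rintro g hg _ ⟨q, hq, rfl⟩
      obtain ⟨k, hk, rfl⟩ := H.exists_N hg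
      exact ⟨k * q * k⁻¹, hn k hk q hq, by rw [map_mul, map_mul, map_inv]⟩
  exact fun q hq => h1 ⟨q, hq, rfl⟩

theorem lab_e (H : LC π c e a' z a P1 R E) : Lab lab (N π z) e := by
  rw [lab_iff]
  refine ⟨fun h => H.z1 (by rw [← H.pe, h, map_one]), R.comap π ⊓ N π z, inf_le_right, ?_, ?_, ?_⟩
  · intro g hg q hq
    refine mem_inf.2 ⟨?_, (N π z).mul_mem ((N π z).mul_mem hg hq.2) ((N π z).inv_mem hg)⟩
    show π (g * q * g⁻¹) ∈ R
    rw [map_mul, map_mul, map_inv]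
    exact H.F.R_nor _ (H.N_le hg) _ hq.1
  · rintro ⟨x, hx, -⟩
    obtain ⟨k, hk⟩ := H.F.R_two ⟨π x, hx⟩
    refine ⟨k + 1, ?_⟩
    apply Subtype.ext
    show x ^ 2 ^ (k + 1) = 1
    have h1 : π (x ^ 2 ^ k) = 1 := by rw [map_pow]; exact congrArg Subtype.val hk
    rw [pow_succ, pow_mul, pow_two]
    rcases (H.hd.ker _).1 h1 with h2 | h2
    · rw [h2, one_mul]
    · rw [h2, H.cc]
  · obtain ⟨r1, h1, r2, h2, r3, h3, h⟩ := H.F.gam
    obtain ⟨x1, hx1, rfl⟩ := H.exists_N (H.F.R_le h1)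
    obtain ⟨x2, hx2, rfl⟩ := H.exists_N (H.F.R_le h2)
    obtain ⟨x3, hx3, rfl⟩ := H.exists_N (H.F.R_le h3)
    have hm : ⁅⁅x1, x2⁆, x3⁆ ∈ ⁅⁅R.comap π ⊓ N π z, R.comap π ⊓ N π z⁆, R.comap π ⊓ N π z⁆ :=
      commutator_mem_commutator (commutator_mem_commutator ⟨h1, hx1⟩ ⟨h2, hx2⟩) ⟨h3, hx3⟩
    rcases gam_le H inf_le_right (fun q hq => hq.1) _ hm with h4 | h4
    · exfalso
      rw [← map_commutatorElement, ← map_commutatorElement, h4, map_one] at h
      exact H.z1 h.symm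
    · rw [← h4]; exact hm

theorem lab_only (H : LC π c e a' z a P1 R E) {x : L} (h : Lab lab (N π z) x) : x = e := by
  rw [lab_iff] at h
  obtain ⟨hx, Q, hQN, hn, hp, hQ⟩ := h
  exact (gam_le H hQN (over_R H hQN hn hp) x hQ).resolve_left hx

/-- conjugates of `PCen` -/
theorem PCen_conj (f g : L) : PCen (g * f * g⁻¹) = (PCen f).map (MulAut.conj g).toMonoidHom := by
  show PC _ = (PC _).map _
  rw [PC_map_conj]
  congr 1
  ext x
  rw [mem_map_equiv, mem_centralizer_singleton_iff, mem_centralizer_singleton_iff]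
  show _ ↔ g⁻¹ * x * g * f = f * (g⁻¹ * x * g)
  constructor
  · intro h
    calc g⁻¹ * x * g * f = g⁻¹ * (x * (g * f * g⁻¹)) * g := by group
      _ = g⁻¹ * (g * f * g⁻¹ * x) * g := by rw [h]
      _ = _ := by group
  · intro h
    calc x * (g * f * g⁻¹) = g * (g⁻¹ * x * g * f) * g⁻¹ := by group
      _ = g * (f * (g⁻¹ * x * g)) * g⁻¹ := by rw [h]
      _ = _ := by group

theorem Lab_conj (f g x : L) : Lab lab (PCen (g * f * g⁻¹)) (g * x * g⁻¹) ↔ Lab lab (PCen f) x := by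
  rw [PCen_conj]
  exact lab_map_iff isoInv (MulAut.conj g).toMonoidHom (MulAut.conj g).injective

/-- the labels of the conjugates of `e` and of `ec` -/
theorem lab_ce (H : LC π c e a' z a P1 R E) {f : L} (h : IsConj e f) (x : L) : Lab lab (PCen f) x ↔ x = f := by
  obtain ⟨g, rfl⟩ := isConj_iff.1 h
  have h1 : x = g * (g⁻¹ * x * g) * g⁻¹ := by group
  rw [h1, Lab_conj, H.PCen_e]
  constructor
  · intro h2
    rw [lab_only H h2]
  · intro h2
    have h3 : g⁻¹ * x * g = e := by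
      have := mul_right_cancel h2
      exact mul_left_cancel this
    rw [h3]
    exact lab_e H

theorem lab_cec (H : LC π c e a' z a P1 R E) {f : L} (h : IsConj (e * c) f) (x : L) :
    Lab lab (PCen f) x ↔ x = f * c := by
  obtain ⟨g, rfl⟩ := isConj_iff.1 h
  have h1 : x = g * (g⁻¹ * x * g) * g⁻¹ := by group
  have h4 : g * (e * c) * g⁻¹ * c = g * e * g⁻¹ := by
    calc g * (e * c) * g⁻¹ * c = g * e * (c * g⁻¹) * c := by group
      _ = g * e * (g⁻¹ * c) * c := by rw [H.hd.cen]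
      _ = g * e * g⁻¹ * (c * c) := by group
      _ = _ := by rw [H.cc, mul_one]
  rw [h4, h1, Lab_conj, H.PCen_ec]
  constructor
  · intro h2
    rw [lab_only H h2]
  · intro h2
    have h3 : g⁻¹ * x * g = e := by
      have := mul_right_cancel h2
      exact mul_left_cancel this
    rw [h3]
    exact lab_e H

/-- the involutions over the class of `z` -/
theorem cases (H : LC π c e a' z a P1 R E) {f : L} (h : IsConj z (π f)) : IsConj e f ∨ IsConj (e * c) f := by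
  obtain ⟨g, hg⟩ := isConj_iff.1 h
  obtain ⟨k, rfl⟩ := H.hd.surj g
  have h1 : π f = π (k * e * k⁻¹) := by rw [map_mul, map_mul, map_inv, H.pe, hg]
  rcases eq_or H.hd h1 with h2 | h2
  · left; exact isConj_iff.2 ⟨k, h2.symm⟩
  · right
    refine isConj_iff.2 ⟨k, ?_⟩
    rw [h2]
    calc k * (e * c) * k⁻¹ = k * e * (c * k⁻¹) := by group
      _ = k * e * (k⁻¹ * c) := by rw [H.hd.cen]
      _ = k * e * k⁻¹ * c := by group
      _ = _ := (H.hd.cen _).symm

theorem mem_ce [Finite L] (H : LC π c e a' z a P1 R E) {f : L} (h : IsConj z (π f)) : c ∈ PCen f := by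
  have hg : ∀ g : L, g * c * g⁻¹ = c := fun g => by rw [← H.hd.cen, mul_inv_cancel_right]
  rcases cases H h with h | h <;> obtain ⟨g, rfl⟩ := isConj_iff.1 h
  · rw [PCen_conj, H.PCen_e]
    exact ⟨c, H.c_mem, hg g⟩
  · rw [PCen_conj, H.PCen_ec]
    exact ⟨c, H.c_mem, hg g⟩

/-- **all K-facts of `2.Ru`** -/
theorem kfacts [Finite L] (H : LC π c e a' z a P1 R E) (cen : ∀ x : L, (∀ y, x * y = y * x) ↔ x = 1 ∨ x = c)
    (inn : ∀ φ : MulAut L, φ ∈ Inn L) (inv : ∀ f : L, InvL c f → IsConj z (π f))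
    (pf : ∃ g0 g1 : L, IsConj e g0 ∧ IsConj e g1 ∧ IsConj e (g0 * g1 * c) ∧ g0 * g1 = g1 * g0)
    (sq : ∀ v k : L, v * v = c → (∀ y ∈ PCen v, k * y = y * k) → k * k = 1 ∨ k * k = c) : KFacts lab L c := by
  have hc1 := H.hd.ne
  have invc : ∀ {f : L}, IsConj (e * c) f → f * f = 1 ∧ f ≠ 1 ∧ f ≠ c := by
    intro f hf
    obtain ⟨g, rfl⟩ := isConj_iff.1 hf
    refine ⟨?_, ?_, ?_⟩
    · calc g * (e * c) * g⁻¹ * (g * (e * c) * g⁻¹) = g * (e * (c * e) * c) * g⁻¹ := by group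
        _ = g * (e * (e * c) * c) * g⁻¹ := by rw [H.hd.cen]
        _ = g * ((e * e) * (c * c)) * g⁻¹ := by group
        _ = 1 := by rw [H.ee, H.cc]; group
    · intro h
      exact ne_ec H (conj_eq_one_iff.1 h)
    · intro h
      have h2 : g * (e * c) * g⁻¹ = g * c * g⁻¹ := by rw [h, ← H.hd.cen g, mul_inv_cancel_right]
      have h3 := mul_left_cancel (mul_right_cancel h2)
      have h4 := congrArg π (mul_eq_right.1 h3)
      rw [H.pe, map_one] at h4
      exact H.z1 h4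
  have e1 : e ≠ 1 := fun h => H.z1 (by rw [← H.pe, h, map_one])
  refine
    { cc := H.cc
      c1 := hc1
      cen := cen
      inn := inn
      mem := fun f hf => mem_ce H (inv f hf)
      lab_or := ?_
      lab_not := ?_
      lab_c := ?_
      conj := ?_
      pf := ?_
      sq := sq }
  · intro f hf
    rcases cases H (inv f hf) with h | h
    · left; rw [lab_ce H h]
    · right; rw [lab_cec H h]
  · intro f hf h1 h2
    rcases cases H (inv f hf) with h | h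
    · rw [lab_ce H h] at h2
      exact hc1 (mul_eq_left.1 h2)
    · rw [lab_cec H h] at h1
      exact hc1 (mul_eq_left.1 h1.symm)
  · intro f hf h1
    rcases cases H (inv f hf) with h | h
    · rw [lab_ce H h] at h1
      exact hf.nec h1.symm
    · rw [lab_cec H h] at h1
      exact hf.ne (mul_eq_right.1 h1.symm)
  · intro f w hf hw h1 h2
    have key : ∀ f, InvL c f → Lab lab (PCen f) (f * c) → IsConj (e * c) f := by
      intro f hf h1
      rcases cases H (inv f hf) with h | h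
      · rw [lab_ce H h] at h1
        exact absurd (mul_eq_left.1 h1) hc1
      · exact h
    exact isConj_iff.1 ((key f hf h1).symm.trans (key w hw h2))
  · obtain ⟨g0, g1, h0, h1, h01, hcom⟩ := pf
    have cj : ∀ {x : L}, IsConj e x → IsConj (e * c) (x * c) := by
      intro x hx
      obtain ⟨g, rfl⟩ := isConj_iff.1 hx
      refine isConj_iff.2 ⟨g, ?_⟩
      calc g * (e * c) * g⁻¹ = g * e * (c * g⁻¹) := by group
        _ = g * e * (g⁻¹ * c) := by rw [H.hd.cen]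
        _ = _ := by group
    have k0 := cj h0
    have k1 := cj h1
    have k2 := cj h01
    have e2 : g0 * c * (g1 * c) = g0 * g1 := by
      calc g0 * c * (g1 * c) = g0 * (c * g1) * c := by group
        _ = g0 * (g1 * c) * c := by rw [H.hd.cen]
        _ = g0 * g1 * (c * c) := by group
        _ = _ := by rw [H.cc, mul_one]
    have e3 : g0 * g1 * c * c = g0 * g1 := by rw [mul_assoc, H.cc, mul_one]
    have e4 : g1 * c * (g0 * c) = g0 * g1 := by
      calc g1 * c * (g0 * c) = g1 * (c * g0) * c := by group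
        _ = g1 * (g0 * c) * c := by rw [H.hd.cen]
        _ = g1 * g0 * (c * c) := by group
        _ = _ := by rw [H.cc, mul_one, hcom]
    rw [e3] at k2
    refine ⟨g0 * c, g1 * c, ⟨(invc k0).1, (invc k0).2.1, (invc k0).2.2⟩,
      ⟨(invc k1).1, (invc k1).2.1, (invc k1).2.2⟩, ?_, ?_, ?_, ?_, ?_, ?_⟩
    · rw [e2]
      exact ⟨(invc k2).1, (invc k2).2.1, (invc k2).2.2⟩
    · rw [e2, e4]
    · intro h
      have h5 : g0 * g1 = 1 := by
        rw [← e2, ← h]; exact (invc k0).1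
      exact (invc k2).2.1 h5
    · rw [lab_cec H k0]
    · rw [lab_cec H k1]
    · rw [e2, lab_cec H k2]

end

end Cfsg.Agent.OddHalf.D9.Ru.XLab

end

-- merged: Cfsg.Agent.OddHalf.D9.Ru.Words
section

/-!
# Words in a perfect double cover of the Rudvalis group

* `exists_sz`: `⟨S, W, F, D⟩ = Sz(8) : 3` lifts exactly (the certificates of `KFacts/MulRu`);
* `delta`: `e (f e f⁻¹) = f³ e f⁻³` for `e = s²`;
* `pf`: `g₀ g₁ c = g₂` for three conjugates of `e`.
-/

set_option autoImplicit false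
set_option maxRecDepth 100000

namespace Cfsg.Agent.OddHalf.D9.Ru.Words

open Subgroup Cfsg.Agent.KFacts.MulTwo Cfsg.Agent.KFacts.MulDef Cfsg.Agent.KFacts.MulSpor.Class
open Cfsg.Agent.SporadicRecognition.CosetCert Cfsg.Agent.KFacts.MulRu.Sign Cfsg.Agent.KFacts.MulRu
open Cfsg.Agent.KFacts.MulRu.Near Cfsg.Agent.KFacts.MulRu.Main Cfsg.Agent.RuD.Rels
open Cfsg.Agent.SporRec.TCUpperCert
open scoped commutatorElement

/-- the relations of `Sz(8) : 3` -/
structure SzR {G : Type*} [Group G] (s w f d : G) : Prop where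
  s4 : s * s * s * s = 1
  w2 : w * w = 1
  f7 : f * f * f * f * f * f * f = 1
  wf : w * f * w * f = 1
  ws : s⁻¹ * s⁻¹ * w * s * w * s⁻¹ * w = 1
  h1 : f⁻¹ * f⁻¹ * f⁻¹ * s⁻¹ * f * f * s⁻¹ * f * s⁻¹ = 1
  h2 : f⁻¹ * s⁻¹ * s⁻¹ * f * s⁻¹ * f⁻¹ * s⁻¹ * s⁻¹ * f * s = 1
  h3 : f⁻¹ * s⁻¹ * f * s⁻¹ * s⁻¹ * f⁻¹ * s * f * s⁻¹ * s⁻¹ = 1
  d3 : d * d * d = 1
  ds : d * s * d⁻¹ * s⁻¹ = 1
  dw : d * w * d⁻¹ * w = 1
  df : d⁻¹ * f * d * f⁻¹ * f⁻¹ * f⁻¹ * f⁻¹ = 1

section cert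

variable {L : Type*} [Group L] {c s w f d : L}

/-- the relators `h2`, `h3` are exact -/
theorem exact_sz (hc : ∀ x : L, c * x = x * c) (hcc : c * c = 1) (h1 : c ≠ 1)
    (k1 : s * s * s * s = 1) (k2 : w * w = 1) (k3 : f * f * f * f * f * f * f = 1) (k4 : w * f * w * f = 1)
    (k5 : s⁻¹ * s⁻¹ * w * s * w * s⁻¹ * w = 1)
    (k6 : f⁻¹ * f⁻¹ * f⁻¹ * s⁻¹ * f * f * s⁻¹ * f * s⁻¹ = 1) (k7 : d * d * d = 1) (k8 : d * s * d⁻¹ * s⁻¹ = 1)
    (k9 : d * w * d⁻¹ * w = 1) (k10 : d⁻¹ * f * d * f⁻¹ * f⁻¹ * f⁻¹ * f⁻¹ = 1)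
    (m2 : f⁻¹ * s⁻¹ * s⁻¹ * f * s⁻¹ * f⁻¹ * s⁻¹ * s⁻¹ * f * s = 1 ∨
      f⁻¹ * s⁻¹ * s⁻¹ * f * s⁻¹ * f⁻¹ * s⁻¹ * s⁻¹ * f * s = c)
    (m3 : f⁻¹ * s⁻¹ * f * s⁻¹ * s⁻¹ * f⁻¹ * s * f * s⁻¹ * s⁻¹ = 1 ∨
      f⁻¹ * s⁻¹ * f * s⁻¹ * s⁻¹ * f⁻¹ * s * f * s⁻¹ * s⁻¹ = c) : SzR s w f d := by
  have hf7 := k3
  have e1 := comm4 hc hcc s
  have e2 := comm4' hc hcc k2
  have e3 := comm4 hc hcc f
  have e4 := comm4 hc hcc d
  have fin : ∀ x, x ∈ zpowers f → x = c → False := by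
    rintro x hx rfl
    exact h1 (c_eq_one hcc hf7 hx)
  rcases m2 with m2 | m2 <;> rcases m3 with m3 | m3
  · exact ⟨k1, k2, k3, k4, k5, k6, m2, m3, k7, k8, k9, k10⟩
  · exfalso
    have m3' : f⁻¹ * s⁻¹ * f * s⁻¹ * s⁻¹ * f⁻¹ * s * f * s⁻¹ * s⁻¹ * c = 1 := by rw [m3, hcc]
    refine fin _ (Sz01.mem (zpowers f) (gs c s w f d) ?_ ?_ ?_ [7] (by simp [Sz01Data.targets])) ?_
    · intro x hx
      interval_cases x
      · exact mul_inv_cancel s
      · exact inv_mul_cancel s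
      · exact k2
      · exact mul_inv_cancel f
      · exact inv_mul_cancel f
      · exact mul_inv_cancel d
      · exact inv_mul_cancel d
      · exact hcc
    · simp only [Sz01Data.rels, List.forall_mem_cons, List.not_mem_nil, false_imp_iff, implies_true, and_true, ev,
        List.map_cons, List.map_nil, List.prod_cons, List.prod_nil, mul_one, gs]
      simp only [mul_assoc] at k1 k2 k3 k4 k5 k6 k7 k8 k9 k10 m2 m3' e1 e2 e3 e4 ⊢
      exact ⟨k7, k1, k4, k8, k9, e1, e2, e3, e4, k3, k5, k10, k6, m2, m3'⟩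
    · intro u hu
      simp only [Sz01Data.subw, List.mem_cons, List.not_mem_nil, or_false] at hu
      subst hu
      simp only [ev, List.map_cons, List.map_nil, List.prod_cons, List.prod_nil, mul_one, gs]
      exact mem_zpowers f
    · simp only [ev, List.map_cons, List.map_nil, List.prod_cons, List.prod_nil, mul_one, gs]
  · exfalso
    have m2' : f⁻¹ * s⁻¹ * s⁻¹ * f * s⁻¹ * f⁻¹ * s⁻¹ * s⁻¹ * f * s * c = 1 := by rw [m2, hcc]
    refine fin _ (Sz10.mem (zpowers f) (gs c s w f d) ?_ ?_ ?_ [7] (by simp [Sz10Data.targets])) ?_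
    · intro x hx
      interval_cases x
      · exact mul_inv_cancel s
      · exact inv_mul_cancel s
      · exact k2
      · exact mul_inv_cancel f
      · exact inv_mul_cancel f
      · exact mul_inv_cancel d
      · exact inv_mul_cancel d
      · exact hcc
    · simp only [Sz10Data.rels, List.forall_mem_cons, List.not_mem_nil, false_imp_iff, implies_true, and_true, ev,
        List.map_cons, List.map_nil, List.prod_cons, List.prod_nil, mul_one, gs]
      simp only [mul_assoc] at k1 k2 k3 k4 k5 k6 k7 k8 k9 k10 m2' m3 e1 e2 e3 e4 ⊢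
      exact ⟨k7, k1, k4, k8, k9, e1, e2, e3, e4, k3, k5, k10, k6, m3, m2'⟩
    · intro u hu
      simp only [Sz10Data.subw, List.mem_cons, List.not_mem_nil, or_false] at hu
      subst hu
      simp only [ev, List.map_cons, List.map_nil, List.prod_cons, List.prod_nil, mul_one, gs]
      exact mem_zpowers f
    · simp only [ev, List.map_cons, List.map_nil, List.prod_cons, List.prod_nil, mul_one, gs]
  · exfalso
    have m2' : f⁻¹ * s⁻¹ * s⁻¹ * f * s⁻¹ * f⁻¹ * s⁻¹ * s⁻¹ * f * s * c = 1 := by rw [m2, hcc]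
    have m3' : f⁻¹ * s⁻¹ * f * s⁻¹ * s⁻¹ * f⁻¹ * s * f * s⁻¹ * s⁻¹ * c = 1 := by rw [m3, hcc]
    refine fin _ (Sz11.mem (zpowers f) (gs c s w f d) ?_ ?_ ?_ [7] (by simp [Sz11Data.targets])) ?_
    · intro x hx
      interval_cases x
      · exact mul_inv_cancel s
      · exact inv_mul_cancel s
      · exact k2
      · exact mul_inv_cancel f
      · exact inv_mul_cancel f
      · exact mul_inv_cancel d
      · exact inv_mul_cancel d
      · exact hcc
    · simp only [Sz11Data.rels, List.forall_mem_cons, List.not_mem_nil, false_imp_iff, implies_true, and_true, ev,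
        List.map_cons, List.map_nil, List.prod_cons, List.prod_nil, mul_one, gs]
      simp only [mul_assoc] at k1 k2 k3 k4 k5 k6 k7 k8 k9 k10 m2' m3' e1 e2 e3 e4 ⊢
      exact ⟨k7, k1, k4, k8, k9, e1, e2, e3, e4, k3, k5, k10, k6, m2', m3'⟩
    · intro u hu
      simp only [Sz11Data.subw, List.mem_cons, List.not_mem_nil, or_false] at hu
      subst hu
      simp only [ev, List.map_cons, List.map_nil, List.prod_cons, List.prod_nil, mul_one, gs]
      exact mem_zpowers f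
    · simp only [ev, List.map_cons, List.map_nil, List.prod_cons, List.prod_nil, mul_one, gs]

open Cfsg.Agent.RuD in
theorem index_B (h : SzR s w f d) :
    (zpowers f).relIndex (closure {s, f}) ≤ 64 ∧ (zpowers f).relIndex (closure {s, f}) ≠ 0 := by
  have h0 := h.s4
  have h2 := h.f7
  have h5 := h.h1
  have h6 := h.h2
  have h7 := h.h3
  refine relIndex_le_of_valid [s, s⁻¹, f, f⁻¹] TCB.inv TCB.lab TCB.fxl TCB.rels TCB.valid TCB.tt_ok ?_ ?_ _ ?_ _ ?_
  · intro a ha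
    change a < 4 at ha
    interval_cases a
    · exact mul_inv_cancel s
    · exact inv_mul_cancel s
    · exact mul_inv_cancel f
    · exact inv_mul_cancel f
  · simp only [TCB.rels, List.forall_mem_cons, List.not_mem_nil, false_imp_iff, implies_true, and_true, wprod, lv,
      List.map_cons, List.map_nil, List.prod_cons, List.prod_nil, mul_one, List.getD_cons_zero, List.getD_cons_succ]
    simp only [mul_assoc] at *
    exact ⟨h0, h2, h5, h6, h7⟩
  · intro a ha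
    simp only [TCB.fxl, List.mem_cons, List.not_mem_nil, or_false] at ha
    subst ha
    exact mem_zpowers f
  · intro x hx
    rcases hx with rfl | rfl
    · exact ⟨0, by norm_num, rfl⟩
    · exact ⟨2, by norm_num, rfl⟩

theorem card_sf (h : SzR s w f d) : Nat.card (closure ({s, f} : Set L)) ≤ 448 := by
  have h7 : f ^ 7 = 1 := by
    rw [← h.f7]; simp only [pow_succ, pow_zero, one_mul]
  have hd : orderOf f ∣ 7 := orderOf_dvd_of_pow_eq_one h7
  have l1 : zpowers f ≤ closure {s, f} := by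
    rw [zpowers_le]; exact subset_closure (by simp)
  have e1 := relIndex_mul_relIndex _ _ _ (bot_le : ⊥ ≤ zpowers f) l1
  rw [relIndex_bot_left, relIndex_bot_left, Nat.card_zpowers] at e1
  rw [← e1]
  calc _ ≤ 7 * 64 := Nat.mul_le_mul (Nat.le_of_dvd (by norm_num) hd) (index_B h).1
    _ = 448 := by norm_num

end cert

section cover

universe u

variable {L X : Type u} [Group L] [Finite L] [Group X] {π : L →* X} {c : L} {T S W F D Y : X}

/-- `Sz(8) : 3` lifts exactly -/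
theorem exists_sz (hd : Dbl π c) (hX : RuRelsX T S W F D Y) :
    ∃ s w f d : L, π s = S ∧ π w = W ∧ π f = F ∧ π d = D ∧ SzR s w f d := by
  have hR := hX.toRuRels
  have o7 : Odd 7 := by decide
  have o3 : Odd 3 := by decide
  have hπc : π c = 1 := pi_c hd
  obtain ⟨f, hf, hf7⟩ := odd_lift hd o7 (x := F) (by rw [← hR.f7]; simp only [pow_succ, pow_zero, one_mul])
  obtain ⟨d, hdd, hd3⟩ := odd_lift hd o3 (x := D) (by rw [← hR.d3]; simp only [pow_succ, pow_zero, one_mul])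
  have hd3' : d * d * d = 1 := by rw [← hd3]; simp only [pow_succ, pow_zero, one_mul]
  have hf7' : f * f * f * f * f * f * f = 1 := by rw [← hf7]; simp only [pow_succ, pow_zero, one_mul]
  -- `s`
  obtain ⟨s0, hs0⟩ := hd.surj S
  have hs : ∃ s : L, π s = S ∧ f⁻¹ * f⁻¹ * f⁻¹ * s⁻¹ * f * f * s⁻¹ * f * s⁻¹ = 1 := by
    have e1 : π (f⁻¹ * f⁻¹ * f⁻¹ * s0⁻¹ * f * f * s0⁻¹ * f * s0⁻¹) = 1 := by
      simp only [map_mul, map_inv, hs0, hf]; exact hR.h1
    rcases one_or hd e1 with h | h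
    · exact ⟨s0, hs0, h⟩
    · refine ⟨c * s0, by rw [map_mul, hπc, one_mul, hs0], ?_⟩
      have h2 := ev_sign hd.cen hd.sq (gl 1 s0 1 f 1 1) (gl (sg c false * 1) (sg c true * s0) (sg c false * 1) f 1
        (sg c false * 1)) _ [7, 7, 7, 6, 3, 3, 6, 3, 6] (fun x _ => gl_sign hd 1 s0 1 f 1 1 false true false false x)
      rw [ev_h1, ev_h1, h, sg_true] at h2
      rw [h2]
      exact hd.sq
  obtain ⟨s, hs, h1⟩ := hs
  -- `w`
  obtain ⟨w0, hw0⟩ := hd.surj W
  have hw : ∃ w : L, π w = W ∧ s⁻¹ * s⁻¹ * w * s * w * s⁻¹ * w = 1 := by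
    have e1 : π (s⁻¹ * s⁻¹ * w0 * s * w0 * s⁻¹ * w0) = 1 := by
      simp only [map_mul, map_inv, hs, hw0]; exact hR.ws
    rcases one_or hd e1 with h | h
    · exact ⟨w0, hw0, h⟩
    · refine ⟨c * w0, by rw [map_mul, hπc, one_mul, hw0], ?_⟩
      have h2 := ev_sign hd.cen hd.sq (gl 1 s w0 1 1 1) (gl (sg c false * 1) (sg c false * s) (sg c true * w0) 1 1
        (sg c false * 1)) _ [6, 6, 2, 1, 2, 6, 2] (fun x _ => gl_sign hd 1 s w0 1 1 1 false false true false x)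
      rw [ev_ws, ev_ws, h, sg_true, sg_false, one_mul] at h2
      rw [h2]
      exact hd.sq
  obtain ⟨w, hw, hws⟩ := hw
  have hWi : W⁻¹ = W := inv_eq_of_mul_eq_one_left hR.w2
  have hs4 : s * s * s * s = 1 := by
    have := sq_e hX hd (x := s * s) (by rw [map_mul, hs])
    rw [← this]; group
  have hw2 : w * w = 1 := by
    have e1 : (W * S) * W * (W * S)⁻¹ = S * S := by
      calc (W * S) * W * (W * S)⁻¹ = W * S * W * S⁻¹ * W⁻¹ := by group
        _ = W * S * W * S⁻¹ * W := by rw [hWi]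
        _ = S * S * (S⁻¹ * S⁻¹ * W * S * W * S⁻¹ * W) := by group
        _ = S * S := by rw [hR.ws, mul_one]
    have e2 := sq_conj hd (x := w) (y := s * s) _ (by rw [map_mul, hs, hw]; exact e1) (by rw [hw]; exact hR.w2)
    rw [← e2, ← mul_assoc]
    exact hs4
  have hf7i : (f⁻¹) ^ 7 = 1 := by rw [inv_pow, hf7, inv_one]
  have hwf : w * f * w⁻¹ = f⁻¹ := by
    refine odd_unique hd o7 ?_ (by rw [conj_pow', hf7]; group) hf7i
    rw [map_mul, map_mul, map_inv, map_inv, hw, hf, hWi]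
    exact eq_inv_of_mul_eq_one_left hR.wf
  have hds : s * d = d * s := by
    refine comm_odd hd o3 ?_ hd3
    rw [hs, hdd]
    calc S * D = (D * S * D⁻¹ * S⁻¹)⁻¹ * (D * S) := by group
      _ = D * S := by rw [hR.ds]; group
  have hdw : w * d = d * w := by
    refine comm_odd hd o3 ?_ hd3
    rw [hw, hdd]
    calc W * D = 1 * (W⁻¹ * D) := by rw [hWi, one_mul]
      _ = (D * W * D⁻¹ * W) * (W⁻¹ * D) := by rw [hR.dw]
      _ = D * W := by group
  have hdf : d⁻¹ * f * d = f * f * f * f := by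
    refine odd_unique hd o7 ?_ ?_ ?_
    · simp only [map_mul, map_inv, hdd, hf]
      calc D⁻¹ * F * D = (D⁻¹ * F * D * F⁻¹ * F⁻¹ * F⁻¹ * F⁻¹) * (F * F * F * F) := by group
        _ = F * F * F * F := by rw [hR.df, one_mul]
    · have := conj_pow' d⁻¹ f 7
      rw [inv_inv, hf7] at this
      rw [this]; group
    · have e : f * f * f * f = f ^ 4 := by simp only [pow_succ, pow_zero, one_mul]
      rw [e, ← pow_mul, mul_comm 4 7, pow_mul, hf7, one_pow]
  refine ⟨s, w, f, d, hs, hw, hf, hdd, ?_⟩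
  refine exact_sz hd.cen hd.sq hd.ne hs4 hw2 hf7' ?_ hws h1 hd3' ?_ ?_ ?_ ?_ ?_
  · calc w * f * w * f = (w * f * w⁻¹) * (w * w) * f := by group
      _ = 1 := by rw [hwf, hw2]; group
  · rw [← hds]; group
  · rw [← hdw, mul_inv_cancel_right, hw2]
  · rw [hdf]; group
  · refine one_or hd ?_
    simp only [map_mul, map_inv, hs, hf]
    exact hR.h2
  · refine one_or hd ?_
    simp only [map_mul, map_inv, hs, hf]
    exact hR.h3

/-- the lower bound for `⟨S, F⟩` -/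
theorem card_SF (I : Idx.{u}) (hX : Ltr T S W F D Y) [Finite X] : 448 ≤ Nat.card (closure ({S, F} : Set X)) := by
  have hR := hX.toRuRels
  have hH : HBound.HRels T S W F D Y :=
    { s4 := hR.s4, w2 := hR.w2, f7 := hR.f7, wf := hR.wf, ws := hR.ws, h1 := hR.h1, h2 := hR.h2, h3 := hR.h3,
      t2 := hR.t2, d3 := hR.d3, td := hR.td, ds := hR.ds, dw := hR.dw, df := hR.df, ts := hR.ts, tw := hR.tw,
      tf := hR.tf, y2 := hR.y2, yd := hR.yd, ty := hR.ty, ys := hR.ys, yw := hR.yw }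
  have hL := (HBound.index_L hH).1
  have hI := (HBound.index_H hH).1
  have h3 := (I X T S W F D Y hX.toRuRelsX).1
  rw [hX.gen] at h3
  have l2 : closure {S, F} ≤ closure {S, W, F} := closure_mono (by
    intro x hx; rcases hx with rfl | rfl <;> simp)
  have l3 : closure {S, W, F} ≤ closure ({T, S, W, F, D} : Set X) := closure_mono (by
    intro x hx; rcases hx with rfl | rfl | rfl <;> simp)
  have e2 := relIndex_mul_relIndex _ _ _ (bot_le : ⊥ ≤ closure {S, F}) l2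
  have e3 := relIndex_mul_relIndex _ _ _ (bot_le : ⊥ ≤ closure {S, W, F}) l3
  have e4 := relIndex_mul_relIndex _ _ _ (bot_le : ⊥ ≤ closure ({T, S, W, F, D} : Set X)) le_top
  rw [relIndex_bot_left, relIndex_bot_left] at e2 e3 e4
  have e5 : Nat.card (⊤ : Subgroup X) = 145926144000 := by rw [Subgroup.card_top, hX.card]
  by_contra hcon
  push Not at hcon
  have k1 : Nat.card (closure ({S, F} : Set X)) ≤ 447 := by omega
  have k2 := Nat.mul_le_mul k1 hL
  rw [e2] at k2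
  have k3 := Nat.mul_le_mul k2 hI
  rw [e3] at k3
  have k4 := Nat.mul_le_mul k3 h3
  rw [e4, e5] at k4
  norm_num at k4

theorem delta0 (I : Idx.{u}) (hX : Ltr T S W F D Y) (hd : Dbl π c)
    (hw : (S * S) * (F * (S * S) * F⁻¹) * (F * F * F * (S * S) * F⁻¹ * F⁻¹ * F⁻¹)⁻¹ = 1) {s f : L} (hs : π s = S)
    (hf : π f = F) (hf7 : f ^ 7 = 1) :
    (s * s) * (f * (s * s) * f⁻¹) = f * f * f * (s * s) * f⁻¹ * f⁻¹ * f⁻¹ := by
  have : Finite X := Finite.of_surjective π hd.surj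
  obtain ⟨s', w', f', d', hs', hw', hf', hd', R⟩ := exists_sz hd hX.toRuRelsX
  have hff : f = f' := odd_unique hd (by decide : Odd 7) (hf.trans hf'.symm) hf7 (by
    rw [← R.f7]; simp only [pow_succ, pow_zero, one_mul])
  have hss : s * s = s' * s' := sq_eq_of_pi hd (hs.trans hs'.symm)
  rw [hff, hss]
  set x := (s' * s') * (f' * (s' * s') * f'⁻¹) * (f' * f' * f' * (s' * s') * f'⁻¹ * f'⁻¹ * f'⁻¹)⁻¹ with hx
  have hx1 : π x = 1 := by
    rw [hx]
    simp only [map_mul, map_inv, hs', hf']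
    exact hw
  have hxm : x ∈ closure ({s', f'} : Set L) := by
    have m1 : s' ∈ closure ({s', f'} : Set L) := subset_closure (by simp)
    have m2 : f' ∈ closure ({s', f'} : Set L) := subset_closure (by simp)
    have m3 := mul_mem m1 m1
    have m4 := inv_mem m2
    rw [hx]
    exact mul_mem (mul_mem m3 (mul_mem (mul_mem m2 m3) m4))
      (inv_mem (mul_mem (mul_mem (mul_mem (mul_mem (mul_mem (mul_mem m2 m2) m2) m3) m4) m4) m4))
  have hc : c ∉ closure ({s', f'} : Set L) := by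
    intro hc
    have h1 := card_of_mem hd _ hc
    have h2 : (closure ({s', f'} : Set L)).map π = closure ({S, F} : Set X) := by
      rw [MonoidHom.map_closure]
      congr 1
      rw [Set.image_insert_eq, Set.image_singleton, hs', hf']
    rw [h2] at h1
    have h3 := card_SF I hX
    have h4 := card_sf R
    omega
  rcases one_or hd hx1 with h | h
  · rw [hx] at h
    exact mul_inv_eq_one.1 h
  · exfalso
    rw [h] at hxm
    exact hc hxm

end cover

/-! ### the three commuting conjugates -/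

section pf

variable {L : Type*} [Group L]

/-- if `(x y)³ = k` is central in `⟨x, y⟩`, `k² = 1`, `y² = c` central of order 2, `(x²)² = 1`, then
`g₀ g₁ c = y⁻¹ g₀ y` for `g₀ = x²`, `g₁ = x (y⁻¹ g₀ y) x⁻¹` -/
theorem three {c x y k : L} (hc : ∀ g : L, c * g = g * c) (hcc : c * c = 1) (hy : y * y = c)
    (hk : x * y * (x * y) * (x * y) = k) (hkx : k * x = x * k) (hky : k * y = y * k) (hkk : k * k = 1)
    (hx4 : x * x * (x * x) = 1) : (x * x) * (x * (y⁻¹ * (x * x) * y) * x⁻¹) * c = y⁻¹ * (x * x) * y := by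
  have hyi : y⁻¹ = y * c := by
    apply inv_eq_of_mul_eq_one_right
    rw [← mul_assoc, hy, hcc]
  have hki : k⁻¹ = k := inv_eq_of_mul_eq_one_left hkk
  have hci : c⁻¹ = c := inv_eq_of_mul_eq_one_left hcc
  have hx2i : (x * x)⁻¹ = x * x := inv_eq_of_mul_eq_one_left hx4
  have hkxi : k * x⁻¹ = x⁻¹ * k := by
    rw [eq_inv_mul_iff_mul_eq, ← mul_assoc, ← hkx, mul_inv_cancel_right]
  have hkyi : k * y⁻¹ = y⁻¹ * k := by
    rw [eq_inv_mul_iff_mul_eq, ← mul_assoc, ← hky, mul_inv_cancel_right]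
  -- `y x y = x⁻¹ k y⁻¹ x⁻¹`
  have h1 : y * x * y = x⁻¹ * k * y⁻¹ * x⁻¹ := by
    calc y * x * y = x⁻¹ * (x * y * (x * y) * (x * y)) * (y⁻¹ * x⁻¹) := by group
      _ = _ := by rw [hk]; group
  -- `y x y⁻¹ = y x y c`
  have h2 : y * x * y⁻¹ = x⁻¹ * k * y⁻¹ * x⁻¹ * c := by
    rw [hyi, ← mul_assoc, h1, hyi]
  -- conjugation by `y` and `y⁻¹` agree
  have h3 : y * (x * x) * y⁻¹ = y⁻¹ * (x * x) * y := by
    calc y * (x * x) * y⁻¹ = y⁻¹ * ((y * y) * (x * x)) * y⁻¹ := by group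
      _ = y⁻¹ * ((x * x) * (y * y)) * y⁻¹ := by rw [hy, hc]
      _ = _ := by group
  -- squaring
  have h4 : y * (x * x) * y⁻¹ = x⁻¹ * (y⁻¹ * (x * x) * y) * x⁻¹ * c := by
    calc y * (x * x) * y⁻¹ = (y * x * y⁻¹) * (y * x * y⁻¹) := by group
      _ = (x⁻¹ * k * y⁻¹ * x⁻¹ * c) * (x⁻¹ * k * y⁻¹ * x⁻¹ * c) := by rw [h2]
      _ = x⁻¹ * (k * y⁻¹) * x⁻¹ * (c * (x⁻¹ * k * y⁻¹ * x⁻¹)) * c := by group
      _ = x⁻¹ * (k * y⁻¹) * x⁻¹ * ((x⁻¹ * k * y⁻¹ * x⁻¹) * c) * c := by rw [hc (x⁻¹ * k * y⁻¹ * x⁻¹)]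
      _ = x⁻¹ * (k * y⁻¹) * x⁻¹ * (x⁻¹ * k * y⁻¹ * x⁻¹) * (c * c) := by group
      _ = x⁻¹ * (k * y⁻¹) * (x⁻¹ * x⁻¹) * (k * y⁻¹) * x⁻¹ := by rw [hcc]; group
      _ = x⁻¹ * (y⁻¹ * k) * (x⁻¹ * x⁻¹) * (k * y⁻¹) * x⁻¹ := by rw [hkyi]
      _ = x⁻¹ * y⁻¹ * (k * x⁻¹) * x⁻¹ * k * y⁻¹ * x⁻¹ := by group
      _ = x⁻¹ * y⁻¹ * (x⁻¹ * k) * x⁻¹ * k * y⁻¹ * x⁻¹ := by rw [hkxi]
      _ = x⁻¹ * y⁻¹ * x⁻¹ * (k * x⁻¹) * k * y⁻¹ * x⁻¹ := by group
      _ = x⁻¹ * y⁻¹ * x⁻¹ * (x⁻¹ * k) * k * y⁻¹ * x⁻¹ := by rw [hkxi]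
      _ = x⁻¹ * y⁻¹ * (x * x)⁻¹ * (k * k) * y⁻¹ * x⁻¹ := by group
      _ = x⁻¹ * y⁻¹ * (x * x) * y⁻¹ * x⁻¹ := by rw [hx2i, hkk, mul_one]
      _ = x⁻¹ * y⁻¹ * (x * x) * (y * c) * x⁻¹ := by rw [← hyi]
      _ = x⁻¹ * (y⁻¹ * (x * x) * y) * (c * x⁻¹) := by group
      _ = _ := by rw [hc]; group
  have h5 : x⁻¹ * (y⁻¹ * (x * x) * y) * x⁻¹ * c = y⁻¹ * (x * x) * y := by rw [← h4, h3]
  -- `x⁻¹ g₂ x⁻¹ = x² (x g₂ x⁻¹)` up to squares of `x²`
  calc (x * x) * (x * (y⁻¹ * (x * x) * y) * x⁻¹) * c = (x * x) * (x * x) * (x⁻¹ * (y⁻¹ * (x * x) * y) * x⁻¹ * c) := by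
        group
    _ = _ := by rw [hx4, one_mul, h5]

end pf

end Cfsg.Agent.OddHalf.D9.Ru.Words

end

-- merged: Cfsg.Agent.OddHalf.D9.Ru.KFin
section

/-!
# D9, row `2.Ru`: the K-side

`ks`: all facts of `Asm.KS` for a perfect double cover of the Rudvalis group, from the facts `XF` on the centraliser
of `S²` in the Rudvalis group, the bounds of `RuD` on the order and on the index.
-/

set_option autoImplicit false

namespace Cfsg.Agent.OddHalf.D9.Ru.KFin

open Subgroup Cfsg.Agent.KFacts.MulTwo Cfsg.Agent.KFacts.MulDef Cfsg.Agent.OddHalf.D9.Ru.XLevel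
open Cfsg.Agent.OddHalf.D9.Ru.Label Cfsg.Agent.OddHalf.D9.Ru.Base Cfsg.Agent.SporadicB Cfsg.Agent.RuD.Letters
open Cfsg.Agent.OddHalf.D9.Ru.Kill Cfsg.Agent.OddHalf.D9.Ru.XF Cfsg.Agent.OddHalf.D9.Ru.XLab
open Cfsg.Agent.OddHalf.D9.Ru.Asm Cfsg.Agent.KFacts.MulRu.Main Cfsg.Agent.KFacts.MulRu.Sign
open Cfsg.Agent.SporRec.TCUpperCert

universe u

theorem ltr : Ltr T S W F D Y where
  toRuRelsX := Cfsg.Agent.RuD.Model.relsX_model
  gen := Cfsg.Agent.RuD.Model.closure_model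
  card := RuOrder.card_H

/-- `e (f e f⁻¹) = f³ e f⁻³` in `Ru` -/
theorem delta_X : (S * S) * (F * (S * S) * F⁻¹) * (F * F * F * (S * S) * F⁻¹ * F⁻¹ * F⁻¹)⁻¹ = 1 := by
  have h := E01
  unfold E at h
  rw [mul_inv_eq_one]
  calc (S * S) * (F * (S * S) * F⁻¹) = F ^ 0 * (S * S) * (F ^ 0)⁻¹ * (F ^ 1 * (S * S) * (F ^ 1)⁻¹) := by group
    _ = F ^ 3 * (S * S) * (F ^ 3)⁻¹ := h
    _ = _ := by
      have e : F ^ 3 = F * F * F := by rw [pow_succ, pow_two]
      rw [e]; group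

section zero

variable {L : Type} [Group L] [Finite L] {π : L →* RuOrder.H} {c : L}

theorem sq_t0 (B : Bound.{0}) (I : Idx.{0}) (hd : Dbl π c) {x : L} (hx : π x = T) : x * x = c := sq_t B I ltr hd hx

theorem delta_L (I : Idx.{0}) (hd : Dbl π c) {s f : L} (hs : π s = S) (hf : π f = F) (hf7 : f ^ 7 = 1) :
    (s * s) * (f * (s * s) * f⁻¹) = f * f * f * (s * s) * f⁻¹ * f⁻¹ * f⁻¹ :=
  Words.delta0 I ltr hd delta_X hs hf hf7

end zero

section any

variable {L : Type u} [Group L] [Finite L] {π : L →* RuOrder.H} {c : L}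

theorem sq_tu (B : Bound.{0}) (I : Idx.{0}) (hd : Dbl π c) {x : L} (hx : π x = T) : x * x = c := by
  have : Small.{0} L := by
    obtain ⟨n, ⟨e⟩⟩ := Finite.exists_equiv_fin L
    exact small_map e
  let e : L ≃* Shrink.{0} L := (Shrink.mulEquiv (α := L)).symm
  have : Finite (Shrink.{0} L) := Finite.of_equiv L e.toEquiv
  have h1 := sq_t0 B I (hd.of_equiv e (MulEquiv.refl RuOrder.H)) (x := e x) (by
    show π (e.symm (e x)) = T
    rw [e.symm_apply_apply, hx])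
  rw [← map_mul] at h1
  exact e.injective h1

theorem delta_u (I : Idx.{0}) (hd : Dbl π c) {s f : L} (hs : π s = S) (hf : π f = F) (hf7 : f ^ 7 = 1) :
    (s * s) * (f * (s * s) * f⁻¹) = f * f * f * (s * s) * f⁻¹ * f⁻¹ * f⁻¹ := by
  have : Small.{0} L := by
    obtain ⟨n, ⟨e⟩⟩ := Finite.exists_equiv_fin L
    exact small_map e
  let e : L ≃* Shrink.{0} L := (Shrink.mulEquiv (α := L)).symm
  have : Finite (Shrink.{0} L) := Finite.of_equiv L e.toEquiv
  have h1 := delta_L I (hd.of_equiv e (MulEquiv.refl RuOrder.H)) (s := e s) (f := e f) (by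
    show π (e.symm (e s)) = S
    rw [e.symm_apply_apply, hs]) (by
    show π (e.symm (e f)) = F
    rw [e.symm_apply_apply, hf]) (by rw [← map_pow, hf7, map_one])
  simp only [← map_mul, ← map_inv] at h1
  exact e.injective h1

/-- the setting -/
theorem lc (I : Idx.{0}) (hd : Dbl π c) {P1 R E : Subgroup RuOrder.H}
    (hF : XF (S * S) (F * (S * S) * F⁻¹) P1 R E) {s f : L} (hs : π s = S) (hf : π f = F) (hf7 : f ^ 7 = 1) :
    LC π c (s * s) (f * (s * s) * f⁻¹) (S * S) (F * (S * S) * F⁻¹) P1 R E := by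
  have pe : π (s * s) = S * S := by rw [map_mul, hs]
  have ee : s * s * (s * s) = 1 := sq_A hd (by rw [pe])
  have hdel := delta_u I hd hs hf hf7
  have hc3 : IsConj (s * s) ((s * s) * (f * (s * s) * f⁻¹)) := by
    rw [hdel]
    exact isConj_iff.2 ⟨f * f * f, by group⟩
  refine ⟨hd, hF, ee, pe, SS_ne, by simp only [map_mul, map_inv, hs, hf], isConj_iff.2 ⟨f, rfl⟩, ?_, fun x hx => sq_A hd hx⟩
  have h1 : (s * s) * (f * (s * s) * f⁻¹) * ((s * s) * (f * (s * s) * f⁻¹)) = 1 := by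
    obtain ⟨g, hg⟩ := isConj_iff.1 hc3
    rw [← hg]
    calc g * (s * s) * g⁻¹ * (g * (s * s) * g⁻¹) = g * (s * s * (s * s)) * g⁻¹ := by group
      _ = 1 := by rw [ee]; group
  have h2 : (f * (s * s) * f⁻¹) * (f * (s * s) * f⁻¹) = 1 := by
    calc f * (s * s) * f⁻¹ * (f * (s * s) * f⁻¹) = f * (s * s * (s * s)) * f⁻¹ := by group
      _ = 1 := by rw [ee]; group
  have h3 : (f * (s * s) * f⁻¹) * (s * s) = (s * s) * (f * (s * s) * f⁻¹) := by
    calc (f * (s * s) * f⁻¹) * (s * s) = (f * (s * s) * f⁻¹)⁻¹ * (s * s)⁻¹ := by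
          rw [inv_eq_of_mul_eq_one_left h2, inv_eq_of_mul_eq_one_left ee]
      _ = ((s * s) * (f * (s * s) * f⁻¹))⁻¹ := by group
      _ = _ := inv_eq_of_mul_eq_one_left h1
  rw [h3]
  exact hc3

/-- the three commuting conjugates of `e` with product `c` -/
theorem tri (B : Bound.{0}) (I : Idx.{0}) (hd : Dbl π c) {s f : L} (hs : π s = S) (hf : π f = F) :
    ∃ g0 g1 g2 : L, IsConj (s * s) g0 ∧ IsConj (s * s) g1 ∧ IsConj (s * s) g2 ∧ g0 * g1 = g1 * g0 ∧
      g0 * g1 * g2 = c := by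
  have hR := ltr.toRuRels
  have hTi : T⁻¹ = T := inv_eq_of_mul_eq_one_left hR.t2
  have hYi : Y⁻¹ = Y := inv_eq_of_mul_eq_one_left hR.y2
  obtain ⟨y, hy⟩ := hd.surj Y
  have pe : π (s * s) = S * S := by rw [map_mul, hs]
  have ee : s * s * (s * s) = 1 := sq_A hd (by rw [pe])
  have hc1 : ∀ g : L, g * c * g⁻¹ = c := fun g => by rw [← hd.cen, mul_inv_cancel_right]
  -- `y² = c`
  have hY : (T * Y) * T * (T * Y)⁻¹ = Y := by
    calc (T * Y) * T * (T * Y)⁻¹ = (T * Y * T * Y * T * Y) * (Y⁻¹ * T⁻¹ * Y⁻¹ * Y⁻¹ * T⁻¹) := by group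
      _ = Y⁻¹ * (T⁻¹ * (Y⁻¹ * Y⁻¹) * T⁻¹) := by rw [hR.ty]; group
      _ = Y * (T * (Y * Y) * T) := by rw [hYi, hTi]
      _ = Y := by rw [hR.y2, mul_one, hR.t2, mul_one]
  have hyy : y * y = c := by
    obtain ⟨k, hk⟩ := hd.surj (T * Y)
    have h1 := sq_tu B I hd (x := k⁻¹ * y * k) (by
      rw [map_mul, map_mul, map_inv, hk, hy]
      calc (T * Y)⁻¹ * Y * (T * Y) = (T * Y)⁻¹ * ((T * Y) * T * (T * Y)⁻¹) * (T * Y) := by rw [hY]
        _ = T := by group)
    calc y * y = k * (k⁻¹ * y * k * (k⁻¹ * y * k)) * k⁻¹ := by group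
      _ = c := by rw [h1, hc1]
  set x := f * s * f⁻¹ with hx
  have hx2 : x * x = f * (s * s) * f⁻¹ := by rw [hx]; group
  have hx4 : x * x * (x * x) = 1 := by
    rw [hx2]
    calc f * (s * s) * f⁻¹ * (f * (s * s) * f⁻¹) = f * (s * s * (s * s)) * f⁻¹ := by group
      _ = 1 := by rw [ee]; group
  -- `k = (x y)³` is `e` or `c e`
  obtain ⟨k, hk⟩ : ∃ k, x * y * (x * y) * (x * y) = k := ⟨_, rfl⟩
  have hkp : π k = π (s * s) := by
    rw [← hk, hx, pe]
    simp only [map_mul, map_inv, hs, hf, hy]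
    have h1 := hR.last
    have h2 : S * S * (S * S) = 1 := by rw [← mul_assoc]; exact hR.s4
    calc F * S * F⁻¹ * Y * (F * S * F⁻¹ * Y) * (F * S * F⁻¹ * Y) =
        (F * S * F⁻¹ * Y * F * S * F⁻¹ * Y * F * S * F⁻¹ * Y * S * S) * (S * S)⁻¹ := by group
      _ = S * S := by rw [h1, one_mul, inv_eq_of_mul_eq_one_left h2]
  have hke : k = s * s ∨ k = c * (s * s) := Inn.eq_or hd hkp
  have hys : y * (s * s) = s * s * y := by
    have h1 : π (y * s * y⁻¹) = π s := by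
      rw [map_mul, map_mul, map_inv, hy, hs]
      calc Y * S * Y⁻¹ = (Y * S * Y * S⁻¹) * S := by rw [hYi]; group
        _ = S := by rw [hR.ys, one_mul]
    have h2 : y * s * y⁻¹ * (y * s * y⁻¹) = s * s := Cfsg.Agent.KFacts.MulSpor.Class.sq_eq_of_pi hd h1
    calc y * (s * s) = (y * s * y⁻¹ * (y * s * y⁻¹)) * y := by group
      _ = _ := by rw [h2]
  have hky : k * y = y * k := by
    rcases hke with rfl | rfl
    · exact hys.symm
    · calc c * (s * s) * y = c * (y * (s * s)) := by rw [hys]; group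
        _ = (c * y) * (s * s) := by group
        _ = _ := by rw [hd.cen]; group
  have hkk : k * k = 1 := by
    rcases hke with rfl | rfl
    · exact ee
    · calc c * (s * s) * (c * (s * s)) = c * (s * s * c) * (s * s) := by group
        _ = c * (c * (s * s)) * (s * s) := by rw [← hd.cen (s * s)]
        _ = (c * c) * (s * s * (s * s)) := by group
        _ = 1 := by rw [hd.sq, ee, one_mul]
  have hkx : k * x = x * k := by
    have h1 : k * (x * y) = x * y * k := by rw [← hk]; group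
    calc k * x = k * (x * y) * y⁻¹ := by group
      _ = x * (y * k) * y⁻¹ := by rw [h1]; group
      _ = x * (k * y) * y⁻¹ := by rw [hky]
      _ = _ := by group
  have h3 := Words.three hd.cen hd.sq hyy hk hkx hky hkk hx4
  have cj0 : IsConj (s * s) (x * x) := by rw [hx2]; exact isConj_iff.2 ⟨f, rfl⟩
  have cj2 : IsConj (s * s) (y⁻¹ * (x * x) * y) := cj0.trans (isConj_iff.2 ⟨y⁻¹, by group⟩)
  have cj1 : IsConj (s * s) (x * (y⁻¹ * (x * x) * y) * x⁻¹) := cj2.trans (isConj_iff.2 ⟨x, rfl⟩)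
  have inv : ∀ g : L, IsConj (s * s) g → g * g = 1 := by
    intro g hg
    obtain ⟨k, rfl⟩ := isConj_iff.1 hg
    calc k * (s * s) * k⁻¹ * (k * (s * s) * k⁻¹) = k * (s * s * (s * s)) * k⁻¹ := by group
      _ = 1 := by rw [ee]; group
  obtain ⟨g0, h0⟩ : ∃ g, g = x * x := ⟨_, rfl⟩
  obtain ⟨g2, h2⟩ : ∃ g, g = y⁻¹ * (x * x) * y := ⟨_, rfl⟩
  obtain ⟨g1, h1⟩ : ∃ g, g = x * (y⁻¹ * (x * x) * y) * x⁻¹ := ⟨_, rfl⟩
  rw [← h1, ← h0] at h3
  rw [h0, ← h2] at h3
  rw [← h0] at cj0 h3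
  rw [← h2] at cj2
  rw [← h1] at cj1
  have i0 := inv _ cj0
  have i1 := inv _ cj1
  have i2 := inv _ cj2
  have h4 : g0 * g1 * (g0 * g1) = 1 := by
    rw [← h3] at i2
    calc g0 * g1 * (g0 * g1) = g0 * g1 * (g0 * g1) * (c * c) := by rw [hd.sq, mul_one]
      _ = g0 * g1 * ((g0 * g1) * c) * c := by group
      _ = g0 * g1 * (c * (g0 * g1)) * c := by rw [hd.cen]
      _ = g0 * g1 * c * (g0 * g1 * c) := by group
      _ = 1 := i2
  refine ⟨g0, g1, g2, cj0, cj1, cj2, ?_, ?_⟩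
  · calc g0 * g1 = (g0 * g1)⁻¹ := (inv_eq_of_mul_eq_one_left h4).symm
      _ = g1⁻¹ * g0⁻¹ := by group
      _ = g1 * g0 := by rw [inv_eq_of_mul_eq_one_left i0, inv_eq_of_mul_eq_one_left i1]
  · rw [← h3]
    calc g0 * g1 * (g0 * g1 * c) = g0 * g1 * (g0 * g1) * c := by group
      _ = c := by rw [h4, one_mul]

/-- **the facts on an arbitrary perfect double cover of the Rudvalis group** -/
theorem ks (B : Bound.{0}) (I : Idx.{0}) (hxf : ∃ P1 R E, XF (S * S) (F * (S * S) * F⁻¹) P1 R E)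
    (hd : Dbl π c) : ∃ (ℓ : Lbl.{u}) (e : L), IsoInv ℓ ∧ KS ℓ π c e := by
  obtain ⟨P1, R, E, hF⟩ := hxf
  obtain ⟨s, hs⟩ := hd.surj S
  obtain ⟨f, hf, hf7⟩ := odd_lift hd (by decide : Odd 7) (x := F) (by
    rw [← ltr.f7]; simp only [pow_succ, pow_zero, one_mul])
  have H := lc I hd hF hs hf hf7
  refine ⟨lab, s * s, isoInv, ?_⟩
  have h1 := H.PCen_e
  refine ⟨H.pe, ?_, ?_, ?_, ?_, ?_, tri B I hd hs hf⟩
  · rw [h1]; exact H.c_mem
  · rw [h1]; exact lab_e H
  · rw [h1]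
    intro h
    exact hd.ne (mul_eq_left.1 (lab_only H h))
  · rw [h1]
    intro h
    have h2 := lab_only H h
    have h3 := H.pe
    rw [← h2, Inn.pc hd] at h3
    exact SS_ne h3.symm
  · intro t ht h
    rw [sq_tu B I hd ht] at h
    exact hd.ne h

end any

/-- **D9, row `2.Ru`** -/
theorem facts (B : Bound.{0}) (I : Idx.{0}) (hxf : ∃ P1 R E, XF (S * S) (F * (S * S) * F⁻¹) P1 R E) :
    Row.Facts.{u} (fun X _ => Spor.IsoRu X) :=
  facts_of_ks fun _ _ _ _ _ hd => ks B I hxf hd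

theorem row (B : Bound.{0}) (I : Idx.{0}) (hxf : ∃ P1 R E, XF (S * S) (F * (S * S) * F⁻¹) P1 R E) :
    Cut.Row.{u} (fun K _ => Cut.Two (fun X _ => Spor.IsoRu X) K) := Row.row (facts B I hxf)

end Cfsg.Agent.OddHalf.D9.Ru.KFin

end

-- merged: Cfsg.Agent.OddHalf.D9.Ru.RowFin
section

/-!
# D9, row `2.Ru`

`row`: the row `2.Ru` of `Cut.Rows`.
-/

set_option autoImplicit false

namespace Cfsg.Agent.OddHalf.D9.Ru.RowFin

open Cfsg Cfsg.Agent.OddHalf.D9

universe u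

theorem bound : Cfsg.Agent.KFacts.MulRu.Main.Bound.{u} := Cfsg.Agent.RuD.IdxFin.bound

theorem idx : Cfsg.Agent.KFacts.MulRu.Main.Idx.{u} := fun _ _ _ _ _ _ _ _ h =>
  Cfsg.Agent.RuD.IdxFin.index_le h

/-- the facts on an arbitrary perfect double cover of the Rudvalis group -/
theorem facts : Row.Facts.{u} (fun X _ => Spor.IsoRu X) := KFin.facts bound idx XfRes.exists_xf

/-- **D9, row `2.Ru`** -/
theorem row : Cut.Row.{u} (fun K _ => Cut.Two (fun X _ => Spor.IsoRu X) K) := Row.row facts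

end Cfsg.Agent.OddHalf.D9.Ru.RowFin

end

-- merged: Cfsg.Agent.OddHalf.D9.Plug.Ru
section

/-!
# D9, plug: `Ru`
-/

set_option autoImplicit false

namespace Cfsg.Agent.OddHalf.D9.Plug.Ru

open Subgroup Cfsg Cfsg.Agent.OddHalf.D9.Cut Cfsg.Agent.OddHalf.D9.MultOf Cfsg.Agent.OddHalf.D9.Plug.Base
open Cfsg.Agent.KFacts.MulDef Cfsg.Agent.KFacts.MulBound

universe u

/-- field of `TwoRows` -/
theorem field : Bd.{u} 2 (fun X _ => Spor.IsoRu X) :=
  Bd.of_oneCover fun _ _ ⟨e⟩ => Cfsg.Agent.KFacts.MulBaer.OneCover.congr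
    (Cfsg.Agent.KFacts.MulRu.Main.oneCover_of_ltr Cfsg.Agent.OddHalf.D9.Ru.RowFin.bound
      Cfsg.Agent.OddHalf.D9.Ru.RowFin.idx Cfsg.Agent.OddHalf.D9.Ru.KFin.ltr)
    (e.trans Cfsg.Agent.RuLat.Main.equiv).symm

end Cfsg.Agent.OddHalf.D9.Plug.Ru

end
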